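-- Non-abelian simple groups of order less than 6000.
--
-- * `orders_below`: the eleven orders
-- * `mulEquiv_of_card_eq`: the order determines the group
import Cfsg.Agent.Lib.SmallOrders.Orders.Below1092
import Cfsg.Agent.Lib.SmallOrders.Orders.Between
import Cfsg.Agent.Lib.SmallOrders.Orders.Below6232
import Cfsg.Agent.Lib.SmallOrders.Order5616.Main
import Cfsg.Agent.Lib.SmallOrders.ThreePrime.PrimeTriple
import Cfsg.Agent.S0494
import Cfsg.Agent.S0497
import Cfsg.Agent.S0498
import Cfsg.Agent.S0981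
import Cfsg.Agent.S0984
import Cfsg.Agent.S1011
import Cfsg.Agent.S1020
import Cfsg.Agent.S1021

set_option autoImplicit false

namespace Cfsg.Agent.SmallDegreeGraph

open Matrix

theorem orders_below {G : Type*} [Group G] [Finite G] [IsSimpleGroup G] (hG : ¬ IsMulCommutative G)
    (h : Nat.card G < 6000) :
    Nat.card G = 60 ∨ Nat.card G = 168 ∨ Nat.card G = 360 ∨ Nat.card G = 504 ∨ Nat.card G = 660 ∨
      Nat.card G = 1092 ∨ Nat.card G = 2448 ∨ Nat.card G = 2520 ∨ Nat.card G = 3420 ∨
      Nat.card G = 4080 ∨ Nat.card G = 5616 := by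
  rcases Nat.lt_or_ge 1092 (Nat.card G) with h1 | h1
  · rcases Nat.lt_or_ge 3640 (Nat.card G) with h2 | h2
    · have := SmallOrders.Below6232.mem_orders hG h2 (by omega)
      omega
    · have := SmallOrders.Between.mem_orders hG h1 h2
      omega
  · have := SmallOrders.Below1092.mem_orders hG h1
    simp only [List.mem_cons, List.not_mem_nil, or_false] at this
    omega

theorem nonempty_psl_seven {K : Type*} [Group K] [Finite K] [IsSimpleGroup K] (hK : Nat.card K = 168)
    [Fact (Nat.Prime 7)] :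
    Nonempty (K ≃* ProjectiveSpecialLinearGroup (Fin 2) (ZMod 7)) := by
  have hna := SmallOrders.not_isMulCommutative_of_card (G := K) (by rw [hK]; norm_num)
  have hc : ¬ IsCyclic K := fun hc => hna (by have := hc; infer_instance)
  rcases SmallOrders.ThreePrime.psl_five_or_seven (b := 3) hc (by norm_num : Nat.Prime 3) Nat.prime_two
    (by norm_num : Nat.Prime 7) (by norm_num) (by norm_num) (by norm_num) (by rw [hK]; norm_num)
    with h' | ⟨F, _, _, hF, ⟨e⟩⟩
  · omega
  · obtain ⟨e'⟩ := SmallOrders.Order5616.nonempty_pslCongr (n := Fin 2)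
      (FiniteField.ringEquivOfCardEq (K := F) (K' := ZMod 7) (by rw [hF, ZMod.card]))
    exact ⟨e.trans e'⟩

theorem mulEquiv_of_card_eq {G H : Type*} [Group G] [Finite G] [IsSimpleGroup G] [Group H] [Finite H]
    [IsSimpleGroup H] (hG : ¬ IsMulCommutative G) (h : Nat.card G < 6000)
    (he : Nat.card H = Nat.card G) : Nonempty (H ≃* G) := by
  have psl : ∀ (p : ℕ) [Fact p.Prime],
      Nonempty (G ≃* ProjectiveSpecialLinearGroup (Fin 2) (ZMod p)) →
      Nonempty (H ≃* ProjectiveSpecialLinearGroup (Fin 2) (ZMod p)) → Nonempty (H ≃* G) :=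
    fun _ _ ⟨e⟩ ⟨e'⟩ => ⟨e'.trans e.symm⟩
  rcases orders_below hG h with h0 | h0 | h0 | h0 | h0 | h0 | h0 | h0 | h0 | h0 | h0
  · obtain ⟨e⟩ := S0494.result h0
    obtain ⟨e'⟩ := S0494.result (he.trans h0)
    exact ⟨e'.trans e.symm⟩
  · have : Fact (Nat.Prime 7) := ⟨by norm_num⟩
    exact psl 7 (nonempty_psl_seven h0) (nonempty_psl_seven (he.trans h0))
  · obtain ⟨e⟩ := S0497.result h0
    obtain ⟨e'⟩ := S0497.result (he.trans h0)
    exact ⟨e'.trans e.symm⟩
  · exact SmallOrders.S504.mulEquiv (he.trans h0) h0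
  · have : Fact (Nat.Prime 11) := ⟨by norm_num⟩
    exact psl 11 (S0498.result 11 (Or.inl rfl) (by rw [h0]; norm_num) (ZMod.card 11))
      (S0498.result 11 (Or.inl rfl) (by rw [he, h0]; norm_num) (ZMod.card 11))
  · have : Fact (Nat.Prime 13) := ⟨by norm_num⟩
    exact psl 13 (S0498.result 13 (Or.inr rfl) (by rw [h0]; norm_num) (ZMod.card 13))
      (S0498.result 13 (Or.inr rfl) (by rw [he, h0]; norm_num) (ZMod.card 13))
  · have : Fact (Nat.Prime 17) := ⟨by norm_num⟩
    exact psl 17 (S1020.result h0 (ZMod.card 17)) (S1020.result (he.trans h0) (ZMod.card 17))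
  · obtain ⟨e⟩ := S0984.result h0
    obtain ⟨e'⟩ := S0984.result (he.trans h0)
    exact ⟨e'.trans e.symm⟩
  · have : Fact (Nat.Prime 19) := ⟨by norm_num⟩
    exact psl 19 (S1021.result h0 (ZMod.card 19)) (S1021.result (he.trans h0) (ZMod.card 19))
  · exact SmallOrders.S4080.mulEquiv (he.trans h0) h0
  · exact SmallOrders.Order5616.nonempty_mulEquiv (he.trans h0) h0

end Cfsg.Agent.SmallDegreeGraph
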