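-- General tools for groups of order less than 6000.
--
-- * `not_mem_degreePrimes`: a normal abelian Sylow subgroup removes a vertex
-- * `degrees_of_section`: degrees of a normal subgroup of a quotient divide degrees of the group
-- * `exists_socle`: a non-solvable group has a simple socle over its solvable radical
import Cfsg.Agent.Lib.SmallDegreeGraph.Classify
import Cfsg.Agent.Lib.Solvable.Basic
import Cfsg.Agent.Lib.Ito.Basic
import Cfsg.Agent.Lib.Codegree.Basic
import Cfsg.Agent.Lib.CharApp.DegreeSets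
import Cfsg.Prelude.Def_DegreeGraph

set_option autoImplicit false
set_option linter.style.haveILetI false

namespace Cfsg.Agent.SmallDegreeGraph

open Subgroup Cfsg

/-- orders of the non-abelian simple groups below 6000 -/
def orderList : List ℕ := [60, 168, 360, 504, 660, 1092, 2448, 2520, 3420, 4080, 5616]

theorem mem_orderList {G : Type*} [Group G] [Finite G] [IsSimpleGroup G]
    (hG : ¬ IsMulCommutative G) (h : Nat.card G < 6000) : Nat.card G ∈ orderList := by
  simp only [orderList, List.mem_cons, List.not_mem_nil, or_false]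
  exact orders_below hG h

universe u

theorem isSolvable_of_isMulCommutative {G : Type*} [Group G] (h : IsMulCommutative G) :
    Group.IsSolvable G := Group.isSolvable_of_comm fun a b => h.is_comm.comm a b


theorem exists_order_dvd_aux : ∀ (m : ℕ) (H : Type u) [Group H] [Finite H], Nat.card H = m →
    m < 6000 → ¬ Group.IsSolvable H → ∃ t ∈ orderList, t ∣ m := by
  intro m
  induction m using Nat.strong_induction_on with
  | _ m ih =>
    intro H _ _ hm hlt hH
    haveI : Nontrivial H := by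
      rcases subsingleton_or_nontrivial H with hh | hh
      · exact absurd (Group.isSolvable_of_comm fun a b => Subsingleton.elim _ _) hH
      · exact hh
    by_cases hsimp : IsSimpleGroup H
    · exact ⟨m, hm ▸ mem_orderList (fun hc => hH (isSolvable_of_isMulCommutative hc)) (hm ▸ hlt),
        dvd_rfl⟩
    obtain ⟨N, hN, hb, ht⟩ : ∃ N : Subgroup H, N.Normal ∧ N ≠ ⊥ ∧ N ≠ ⊤ := by
      by_contra hno
      exact hsimp ⟨fun N hN => or_iff_not_imp_left.mpr fun hb => by
        by_contra ht
        exact hno ⟨N, hN, hb, ht⟩⟩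
    haveI := hN
    have hmul : Nat.card (H ⧸ N) * Nat.card N = m := by
      rw [← hm, ← Subgroup.index_eq_card, Subgroup.index_mul_card]
    have h1 : 1 < Nat.card N := (one_lt_card_iff_ne_bot N).mpr hb
    have h2 : 1 < Nat.card (H ⧸ N) := by
      rw [← Subgroup.index_eq_card]; exact one_lt_index_of_ne_top ht
    by_cases hNs : Group.IsSolvable N
    · have hq : ¬ Group.IsSolvable (H ⧸ N) := fun hq =>
        hH ((Solvable.isSolvable_subgroup_quotient_iff N).mpr ⟨hNs, hq⟩)
      have hl : Nat.card (H ⧸ N) < m := hmul ▸ lt_mul_of_one_lt_right (by omega) h1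
      obtain ⟨t, ht', htd⟩ := ih _ hl (H ⧸ N) rfl (by omega) hq
      exact ⟨t, ht', htd.trans (hmul ▸ dvd_mul_right _ _)⟩
    · have hl : Nat.card N < m := hmul ▸ lt_mul_of_one_lt_left (by omega) h2
      obtain ⟨t, ht', htd⟩ := ih _ hl N rfl (by omega) hNs
      exact ⟨t, ht', htd.trans (hmul ▸ dvd_mul_left _ _)⟩

theorem exists_order_dvd {G : Type u} [Group G] [Finite G] (hns : ¬ Group.IsSolvable G)
    (h : Nat.card G < 6000) : ∃ t ∈ orderList, t ∣ Nat.card G :=
  exists_order_dvd_aux _ G rfl h hns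

/-- two non-solvable factors do not fit below 6000, apart from the order 3600 -/
theorem not_mul_dvd {a b n : ℕ} (ha : a ∈ orderList) (hb : b ∈ orderList) (hn : 0 < n)
    (hlt : n < 6000) (hne : n ≠ 3600) : ¬ a * b ∣ n := by
  intro hd
  have hle := Nat.le_of_dvd hn hd
  simp only [orderList, List.mem_cons, List.not_mem_nil, or_false] at ha hb
  rcases ha with rfl | rfl | rfl | rfl | rfl | rfl | rfl | rfl | rfl | rfl | rfl <;>
    rcases hb with rfl | rfl | rfl | rfl | rfl | rfl | rfl | rfl | rfl | rfl | rfl <;>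
    omega

/-- A prime with a normal abelian Sylow subgroup is no vertex. -/
theorem not_mem_degreePrimes {G : Type*} [Group G] [Finite G] {p : ℕ} [Fact p.Prime]
    (P : Sylow p G) (hn : (P : Subgroup G).Normal)
    (hc : ∀ a ∈ (P : Subgroup G), ∀ b ∈ (P : Subgroup G), a * b = b * a) : p ∉ degreePrimes G := by
  rintro ⟨-, d, ⟨χ, rfl⟩, hd⟩
  haveI := hn
  obtain ⟨n, -, hχ, hdvd⟩ := Ito.exists_degree_dvd_index χ.2 (P : Subgroup G) hc
  rw [show charDegree (χ : G → ℂ) = n by simp [charDegree, hχ]] at hd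
  exact P.not_dvd_index (hd.trans hdvd)

/-- A normal Sylow subgroup of prime order removes a vertex. -/
theorem not_mem_of_prime_order {G : Type*} [Group G] [Finite G] {p : ℕ} [Fact p.Prime]
    (P : Sylow p G) (hn : (P : Subgroup G).Normal) (hc : Nat.card (P : Subgroup G) = p) :
    p ∉ degreePrimes G := by
  haveI := isCyclic_of_prime_card hc
  have hcomm : IsMulCommutative (P : Subgroup G) := IsCyclic.isMulCommutative
  exact not_mem_degreePrimes P hn fun a ha b hb =>
    congrArg Subtype.val (hcomm.is_comm.comm (⟨a, ha⟩ : (P : Subgroup G)) ⟨b, hb⟩)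

/-- Degrees of a normal subgroup of a quotient divide degrees of the group. -/
theorem degrees_of_section {G : Type*} [Group G] [Finite G] (K : Subgroup G) [K.Normal]
    (M : Subgroup (G ⧸ K)) [M.Normal] {d : ℕ} (hd : d ∈ charDegrees M) :
    ∃ e ∈ charDegrees G, d ∣ e := by
  obtain ⟨θ, rfl⟩ := hd
  obtain ⟨χ, hχ⟩ := CharApp.DegreeSets.exists_degree_dvd M θ.2
  refine ⟨_, ⟨Codegree.inflate K χ, rfl⟩, ?_⟩
  simpa [charDegree, Codegree.inflate] using hχ

theorem adj_of_section {G : Type*} [Group G] [Finite G] (K : Subgroup G) [K.Normal]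
    (M : Subgroup (G ⧸ K)) [M.Normal] {p q : ℕ} (h : (degreeGraph M).Adj p q) :
    (degreeGraph G).Adj p q := by
  obtain ⟨hne, hp, hq, d, hd, hpq⟩ := h
  obtain ⟨e, he, hde⟩ := degrees_of_section K M hd
  exact ⟨hne, hp, hq, e, he, hpq.trans hde⟩

theorem card_sup_of_disjoint {G : Type*} [Group G] {A B : Subgroup G}
    (hn : B ≤ normalizer (A : Set G)) (hd : A ⊓ B = ⊥) :
    Nat.card ↥(A ⊔ B) = Nat.card A * Nat.card B := by
  rw [← Nat.card_prod]
  refine (Nat.card_congr (Equiv.ofBijective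
    (fun q : A × B => (⟨q.1.1 * q.2.1, Subgroup.mul_mem_sup q.1.2 q.2.2⟩ : ↥(A ⊔ B))) ⟨?_, ?_⟩)).symm
  · exact fun a b h => Subgroup.mul_injective_of_disjoint (disjoint_iff.mpr hd)
      (congrArg Subtype.val h)
  · rintro ⟨g, hg⟩
    rw [← SetLike.mem_coe, Subgroup.coe_mul_of_right_le_normalizer_left A B hn] at hg
    obtain ⟨a, ha, b, hb, rfl⟩ := hg
    exact ⟨(⟨a, ha⟩, ⟨b, hb⟩), rfl⟩

theorem exists_max_solvable_normal (H : Type*) [Group H] [Finite H] : ∃ (S : Subgroup H)
    (_ : S.Normal), Group.IsSolvable S ∧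
      ∀ N : Subgroup H, N.Normal → Group.IsSolvable N → N ≤ S := by
  have hne : ({N : Subgroup H | N.Normal ∧ Group.IsSolvable N}).Nonempty :=
    ⟨⊥, inferInstance, inferInstance⟩
  obtain ⟨S, ⟨hSn, hSs⟩, hmax⟩ := (Set.toFinite _).exists_maximal hne
  refine ⟨S, hSn, hSs, fun N hN hNs => ?_⟩
  haveI := hSn; haveI := hSs; haveI := hN; haveI := hNs
  exact le_trans le_sup_right (hmax ⟨inferInstance, Solvable.isSolvable_sup S N⟩ le_sup_left)

/-- In a group without solvable normal subgroups, a minimal normal subgroup is simple. -/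
theorem isSimpleGroup_of_minimal {H : Type*} [Group H] [Finite H] (hlt : Nat.card H < 6000)
    (h36 : Nat.card H ≠ 3600)
    (hrad : ∀ N : Subgroup H, N.Normal → Group.IsSolvable N → N = ⊥)
    {M : Subgroup H} (hM : M.Normal) (hne : M ≠ ⊥)
    (hmin : ∀ N : Subgroup H, N.Normal → N ≤ M → N ≠ ⊥ → N = M) :
    IsSimpleGroup M ∧ ¬ IsMulCommutative M := by
  classical
  haveI := hM
  have hMns : ¬ Group.IsSolvable M := fun hs => hne (hrad M hM hs)
  -- a minimal normal subgroup of `M`
  have hSne : ({N : Subgroup H | N ≠ ⊥ ∧ N ≤ M ∧ ∀ m ∈ M, ∀ x ∈ N, m * x * m⁻¹ ∈ N}).Nonempty :=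
    ⟨M, hne, le_rfl, fun m hm x hx => mul_mem (mul_mem hm hx) (inv_mem hm)⟩
  obtain ⟨N, ⟨hNb, hNM, hNn⟩, hNmin⟩ := (Set.toFinite _).exists_minimal hSne
  -- conjugates of `N` again lie among these subgroups
  have hconj : ∀ g : H, N.map (MulAut.conj g).toMonoidHom ≤ M ∧
      ∀ m ∈ M, ∀ x ∈ N.map (MulAut.conj g).toMonoidHom,
        m * x * m⁻¹ ∈ N.map (MulAut.conj g).toMonoidHom := by
    refine fun g => ⟨?_, ?_⟩
    · rintro _ ⟨x, hx, rfl⟩
      exact hM.conj_mem x (hNM hx) g
    · rintro m hm _ ⟨x, hx, rfl⟩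
      refine ⟨g⁻¹ * m * g * x * (g⁻¹ * m * g)⁻¹, hNn _ (hM.conj_mem' m hm g) x hx, ?_⟩
      simp [MulAut.conj_apply, mul_assoc]
  -- two different conjugates would give a factor `|N| * |N|`
  have hNn' : ¬ Group.IsSolvable N := by
    intro hs
    -- the join of the solvable normal subgroups of `M` is normal in `H`
    obtain ⟨S, hSn, hSs, hSmax⟩ := exists_max_solvable_normal M
    haveI : S.Characteristic := Subgroup.characteristic_iff_map_eq.mpr fun φ => by
      have hs' : Group.IsSolvable ↥(S.map φ.toMonoidHom) :=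
        solvable_of_surjective (f := (equivMapOfInjective S φ.toMonoidHom φ.injective).toMonoidHom)
          (MulEquiv.surjective _)
      exact eq_of_le_of_card_ge (hSmax _ (hSn.map _ φ.surjective) hs')
        (card_map_of_injective φ.injective).ge
    have hnorm : (S.map M.subtype).Normal := inferInstance
    have hSbot : S.map M.subtype = ⊥ := hrad _ hnorm
      (solvable_of_surjective (f := (equivMapOfInjective S M.subtype M.subtype_injective).toMonoidHom)
        (MulEquiv.surjective _))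
    have hle : N.subgroupOf M ≤ S := hSmax _
      ⟨fun x hx m => hNn m m.2 x hx⟩
      (solvable_of_surjective (f := (subgroupOfEquivOfLe hNM).symm.toMonoidHom) (MulEquiv.surjective _))
    apply hNb
    rw [← le_bot_iff, ← hSbot]
    intro x hx
    exact ⟨⟨x, hNM hx⟩, hle hx, rfl⟩
  have hfix : ∀ g : H, N.map (MulAut.conj g).toMonoidHom = N := by
    intro g
    set N' := N.map (MulAut.conj g).toMonoidHom with hN'
    have hcard : Nat.card N' = Nat.card N := card_map_of_injective (MulAut.conj g).injective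
    by_contra hne'
    have hinf : N ⊓ N' = ⊥ := by
      by_contra hb
      have hle : N ≤ N ⊓ N' := hNmin ⟨hb, inf_le_left.trans hNM, fun m hm x hx =>
        ⟨hNn m hm x hx.1, (hconj g).2 m hm x hx.2⟩⟩ inf_le_left
      exact hne' (eq_of_le_of_card_ge (hle.trans inf_le_right) hcard.le).symm
    have hnorm : N' ≤ normalizer (N : Set H) := fun x hx => mem_normalizer_iff.mpr fun y =>
      ⟨fun hy => hNn x ((hconj g).1 hx) y hy, fun hy => by
        have h0 := hNn x⁻¹ (inv_mem ((hconj g).1 hx)) _ hy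
        simpa [mul_assoc] using h0⟩
    have hdvd : Nat.card N * Nat.card N' ∣ Nat.card H :=
      card_sup_of_disjoint hnorm hinf ▸ card_subgroup_dvd_card _
    obtain ⟨t, ht, htd⟩ := exists_order_dvd hNn'
      (lt_of_le_of_lt (card_le_card_group N) hlt)
    rw [hcard] at hdvd
    exact not_mul_dvd ht ht Nat.card_pos hlt h36 ((Nat.mul_dvd_mul htd htd).trans hdvd)
  have hNnormal : N.Normal := ⟨fun x hx g => by
    have : (MulAut.conj g).toMonoidHom x ∈ N.map (MulAut.conj g).toMonoidHom := mem_map_of_mem _ hx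
    rwa [hfix g] at this⟩
  have hNeq : N = M := hmin N hNnormal hNM hNb
  subst hNeq
  haveI : Nontrivial N := (nontrivial_iff_ne_bot N).mpr hne
  refine ⟨⟨fun R hR => or_iff_not_imp_left.mpr fun hb => ?_⟩, fun hc => hMns (isSolvable_of_isMulCommutative hc)⟩
  have hmem : R.map N.subtype ≠ ⊥ ∧ R.map N.subtype ≤ N ∧
      ∀ m ∈ N, ∀ x ∈ R.map N.subtype, m * x * m⁻¹ ∈ R.map N.subtype := by
    refine ⟨fun e => hb ((map_eq_bot_iff_of_injective R N.subtype_injective).mp e), map_subtype_le R, ?_⟩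
    rintro m hm _ ⟨x, hx, rfl⟩
    exact ⟨⟨m, hm⟩ * x * ⟨m, hm⟩⁻¹, hR.conj_mem x hx _, rfl⟩
  have hle := hNmin hmem (map_subtype_le R)
  rw [eq_top_iff]
  intro x _
  obtain ⟨y, hy, hyx⟩ := hle x.2
  rwa [← Subtype.ext hyx]

/-- A non-solvable group has a simple subgroup with trivial centraliser over a solvable kernel. -/
theorem exists_socle {G : Type*} [Group G] [Finite G] (hlt : Nat.card G < 6000)
    (h36 : ¬ 3600 ∣ Nat.card G) (hns : ¬ Group.IsSolvable G) :
    ∃ (K : Subgroup G) (_ : K.Normal) (M : Subgroup (G ⧸ K)) (_ : M.Normal),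
      Group.IsSolvable K ∧ IsSimpleGroup M ∧ ¬ IsMulCommutative M ∧
        centralizer (M : Set (G ⧸ K)) = ⊥ := by
  classical
  obtain ⟨K, hKn, hKs, hKmax⟩ := exists_max_solvable_normal G
  have hlt' : Nat.card (G ⧸ K) < 6000 :=
    lt_of_le_of_lt (Nat.card_le_card_of_surjective _ (QuotientGroup.mk'_surjective K)) hlt
  have h36' : Nat.card (G ⧸ K) ≠ 3600 := fun e => h36 (e ▸ card_quotient_dvd_card K)
  have hrad : ∀ N : Subgroup (G ⧸ K), N.Normal → Group.IsSolvable N → N = ⊥ := by
    intro N hN hNs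
    haveI := hN
    have hs : Group.IsSolvable ↥(N.comap (QuotientGroup.mk' K)) := by
      let f : ↥(N.comap (QuotientGroup.mk' K)) →* N := (QuotientGroup.mk' K).subgroupComap N
      haveI := hKs; haveI := hNs
      refine Group.isSolvable_of_ker_le_range
        (Subgroup.inclusion (show K ≤ N.comap (QuotientGroup.mk' K) from fun x hx => by
          rw [mem_comap, QuotientGroup.mk'_apply, (QuotientGroup.eq_one_iff x).mpr hx]
          exact one_mem _)) f ?_
      intro x hx
      have hxK : (x : G) ∈ K := (QuotientGroup.eq_one_iff (x : G)).mp (congrArg Subtype.val hx)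
      exact ⟨⟨x, hxK⟩, Subtype.ext rfl⟩
    have hle := hKmax _ inferInstance hs
    rw [eq_bot_iff]
    intro x hx
    obtain ⟨g, rfl⟩ := QuotientGroup.mk'_surjective K x
    exact mem_bot.mpr ((QuotientGroup.eq_one_iff g).mpr (hle hx))
  have hne : ({N : Subgroup (G ⧸ K) | N.Normal ∧ N ≠ ⊥}).Nonempty := by
    refine ⟨⊤, inferInstance, fun e => hns ?_⟩
    have hK : K = ⊤ := by
      rw [eq_top_iff]
      intro g _
      have : (QuotientGroup.mk' K g) ∈ (⊤ : Subgroup (G ⧸ K)) := mem_top _
      rw [e, mem_bot] at this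
      exact (QuotientGroup.eq_one_iff g).mp this
    haveI : Group.IsSolvable K := hKs
    exact solvable_of_surjective (f := K.subtype) fun g => ⟨⟨g, hK ▸ mem_top g⟩, rfl⟩
  obtain ⟨M, ⟨hMn, hMb⟩, hMmin⟩ := (Set.toFinite _).exists_minimal hne
  obtain ⟨hMsimple, hMna⟩ := isSimpleGroup_of_minimal hlt' h36' hrad hMn hMb
    fun N hN hle hb => le_antisymm hle (hMmin ⟨hN, hb⟩ hle)
  refine ⟨K, hKn, M, hMn, hKs, hMsimple, hMna, ?_⟩
  haveI := hMn
  by_contra hC
  have hCs : ({N : Subgroup (G ⧸ K) | N.Normal ∧ N ≠ ⊥ ∧ N ≤ centralizer (M : Set (G ⧸ K))}).Nonempty :=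
    ⟨_, inferInstance, hC, le_rfl⟩
  obtain ⟨M', ⟨hM'n, hM'b, hM'C⟩, hM'min⟩ := (Set.toFinite _).exists_minimal hCs
  obtain ⟨hM'simple, hM'na⟩ := isSimpleGroup_of_minimal hlt' h36' hrad hM'n hM'b
    fun N hN hle hb => le_antisymm hle (hM'min ⟨hN, hb, hle.trans hM'C⟩ hle)
  haveI := hM'n
  have hinf : M' ⊓ M = ⊥ := hrad _ inferInstance (isSolvable_of_isMulCommutative
    ⟨⟨fun a b => Subtype.ext (mem_centralizer_iff.mp (hM'C b.2.1) a a.2.2)⟩⟩)
  have hmul := card_sup_of_disjoint (A := M') (B := M) le_normalizer_of_normal hinf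
  exact not_mul_dvd (mem_orderList hM'na (lt_of_le_of_lt (card_le_card_group _) hlt'))
    (mem_orderList hMna (lt_of_le_of_lt (card_le_card_group _) hlt')) Nat.card_pos hlt' h36'
    (hmul ▸ card_subgroup_dvd_card _)

end Cfsg.Agent.SmallDegreeGraph
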