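-- An element of prime order acting on a solvable group or on a small simple group.
--
-- * `normal_or_exists_moved`: solvable case
-- * `le_centralizer_of_simple`: an automorphism of coprime prime order of a small simple group
import Cfsg.Agent.Lib.SmallDegreeGraph.Tools
import Cfsg.Agent.Lib.Solvable.Fitting
import Cfsg.Agent.Lib.SmallOrders.Order2520.Sylow

set_option autoImplicit false
set_option linter.style.haveILetI false

namespace Cfsg.Agent.SmallDegreeGraph

open Subgroup Cfsg

variable {G : Type*} [Group G] [Finite G]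

/-- In a solvable group a Sylow subgroup of prime order is normal or moves a normal `p`-group. -/
theorem normal_or_exists_moved [Group.IsSolvable G] {r : ℕ} [Fact r.Prime] (R : Sylow r G)
    (hR : Nat.card (R : Subgroup G) = r) :
    (R : Subgroup G).Normal ∨ ∃ (p : ℕ) (_ : p.Prime) (P : Subgroup G), p ≠ r ∧ P.Normal ∧
      IsPGroup p P ∧ ∃ x ∈ (R : Subgroup G), orderOf x = r ∧ ¬ P ≤ centralizer ({x} : Set G) := by
  classical
  refine or_iff_not_imp_left.mpr fun hnn => ?_
  obtain ⟨x, hx⟩ := exists_prime_orderOf_dvd_card' (G := (R : Subgroup G)) r (by rw [hR])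
  have hxo : orderOf (x : G) = r := by rw [orderOf_coe, hx]
  have hgen : zpowers (x : G) = (R : Subgroup G) :=
    eq_of_le_of_card_ge (zpowers_le.mpr x.2) (by rw [Nat.card_zpowers, hxo, hR])
  set F := fittingSubgroup G with hF
  haveI hFn : F.Normal := Subgroup.sSup_normal _ fun _ h => h.1
  haveI : Group.IsNilpotent F := Cores.fittingSubgroup_isNilpotent
  by_contra hno
  -- every Sylow subgroup of `F` gives a normal subgroup of `G`
  have hsyl : ∀ (p : ℕ) (_ : Fact p.Prime) (P : Sylow p F),
      ((P : Subgroup F).map F.subtype).Normal := by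
    intro p _ P
    have hn : (P : Subgroup F).Normal := inferInstance
    haveI : (P : Subgroup F).Characteristic := P.characteristic_of_normal hn
    infer_instance
  have hxF : (x : G) ∉ F := by
    intro hxF
    obtain ⟨P, hP⟩ := (IsPGroup.of_card (n := 1) (by rw [Nat.card_zpowers, pow_one, orderOf_mk, hxo]) :
      IsPGroup r (zpowers (⟨(x : G), hxF⟩ : F))).exists_le_sylow
    apply hnn
    have hmap : (P : Subgroup F).map F.subtype = (R : Subgroup G) := by
      have hle : (R : Subgroup G) ≤ (P : Subgroup F).map F.subtype :=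
        hgen ▸ zpowers_le.mpr ⟨⟨(x : G), hxF⟩, hP (mem_zpowers _), rfl⟩
      exact (R.is_maximal' (P.isPGroup'.map F.subtype) hle)
    rw [← hmap]
    exact hsyl r inferInstance P
  apply hxF
  apply Solvable.centralizer_fitting_le G
  rw [mem_centralizer_iff]
  set H := (centralizer ({(x : G)} : Set G)).subgroupOf F with hH
  have htop : H = ⊤ := by
    rw [← Subgroup.index_eq_one]
    by_contra hne
    obtain ⟨p, hp, hpd⟩ := Nat.exists_prime_and_dvd hne
    haveI := Fact.mk hp
    obtain ⟨P⟩ := (inferInstance : Nonempty (Sylow p F))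
    have hPH : (P : Subgroup F) ≤ H := by
      intro a ha
      by_contra haH
      rcases eq_or_ne p r with rfl | hpr
      · -- the `r`-part of `F` is trivial
        have hm : (P : Subgroup F).map F.subtype ≤ (R : Subgroup G) := by
          obtain ⟨Q, hQ⟩ := (P.isPGroup'.map F.subtype).exists_le_sylow
          obtain ⟨g, hg⟩ := MulAction.exists_smul_eq G Q R
          intro y hy
          have hy' : g⁻¹ * y * g ∈ (P : Subgroup F).map F.subtype :=
            (hsyl _ inferInstance P).conj_mem' y hy g
          rw [← hg]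
          exact ⟨g⁻¹ * y * g, hQ hy', by simp [MulAut.conj_apply, mul_assoc]⟩
        have ha' : (a : G) ∈ zpowers (x : G) := by rw [hgen]; exact hm ⟨a, ha, rfl⟩
        obtain ⟨k, hk⟩ := ha'
        exact haH (mem_centralizer_singleton_iff.mpr (by
          rw [Subgroup.coe_subtype, ← hk]; exact ((Commute.refl (x : G)).zpow_left k).eq))
      · exact hno ⟨p, hp, (P : Subgroup F).map F.subtype, hpr, hsyl p inferInstance P,
          P.isPGroup'.map _, x, x.2, hxo, fun hle => haH (hle ⟨a, ha, rfl⟩)⟩
    exact P.not_dvd_index (hpd.trans (index_dvd_of_le hPH))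
  intro y hy
  have : (⟨y, hy⟩ : F) ∈ H := htop ▸ mem_top _
  exact (mem_centralizer_singleton_iff.mp this)

/-- Fixed points of a `p`-group under an element of order `r`, in exponents. -/
theorem exists_fixed_exponent {p r : ℕ} [Fact p.Prime] [Fact r.Prime] {x : G} (hx : orderOf x = r)
    {P : Subgroup G} (hP : IsPGroup p P) (hn : x ∈ normalizer (P : Set G)) :
    ∃ a c, c ≤ a ∧ Nat.card P = p ^ a ∧ Nat.card ↥(P ⊓ centralizer ({x} : Set G)) = p ^ c ∧
      (p ≠ r → r ∣ p ^ (a - c) - 1) := by
  obtain ⟨a, ha⟩ := hP.exists_card_eq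
  obtain ⟨c, hca, hc⟩ := (Nat.dvd_prime_pow Fact.out).mp
    (ha ▸ card_dvd_of_le (inf_le_left : P ⊓ centralizer ({x} : Set G) ≤ P))
  refine ⟨a, c, hca, ha, hc, fun hpr => ?_⟩
  have hmod := SmallOrders.card_inf_centralizer_modEq hx hn
  rw [ha, hc] at hmod
  have hcop : Nat.Coprime r (p ^ c) :=
    ((Nat.coprime_primes Fact.out Fact.out).mpr hpr.symm).pow_right c
  have hsplit : p ^ a = p ^ c * p ^ (a - c) := by rw [← pow_add]; congr 1; omega
  rw [hsplit] at hmod
  have hd := (Nat.modEq_iff_dvd' (Nat.le_mul_of_pos_right _ (pow_pos (Fact.out : p.Prime).pos _))).mp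
    hmod.symm
  rw [← Nat.mul_sub_one] at hd
  exact hcop.dvd_of_dvd_mul_left hd

/-- A solvable group, no prime power of whose order is `1` modulo `r`, has normal Sylow `r`. -/
theorem normal_of_solvable [Group.IsSolvable G] {r : ℕ} [Fact r.Prime] (R : Sylow r G)
    (hR : Nat.card (R : Subgroup G) = r)
    (hp : ∀ p i, p.Prime → p ^ (i + 1) ∣ Nat.card G → ¬ r ∣ p ^ (i + 1) - 1) :
    (R : Subgroup G).Normal := by
  refine (normal_or_exists_moved R hR).resolve_right ?_
  rintro ⟨p, hpp, P, hpr, hPn, hP, x, -, hxo, hnc⟩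
  haveI := Fact.mk hpp
  obtain ⟨a, c, hca, ha, hc, hd⟩ := exists_fixed_exponent hxo hP
    (by rw [normalizer_eq_top_iff.mpr hPn]; exact mem_top x)
  rcases eq_or_lt_of_le hca with rfl | hlt
  · exact hnc (inf_eq_left.mp (eq_of_le_of_card_ge inf_le_left (by rw [ha, hc])))
  · refine hp p (a - c - 1) hpp ?_ ?_
    · exact (pow_dvd_pow p (by omega)).trans (ha ▸ card_subgroup_dvd_card P)
    · rw [show a - c - 1 + 1 = a - c by omega]; exact hd hpr

/-- The same, when only full Sylow subgroups of vertices are `1` modulo `r`. -/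
theorem solvable_absurd [Group.IsSolvable G] {r : ℕ} [Fact r.Prime] (R : Sylow r G)
    (hR : Nat.card (R : Subgroup G) = r) (hv : r ∈ degreePrimes G)
    (hp : ∀ p i, p.Prime → p ^ (i + 1) ∣ Nat.card G → r ∣ p ^ (i + 1) - 1 →
      ¬ p ^ (i + 2) ∣ Nat.card G ∧ p ∈ degreePrimes G) : False := by
  rcases normal_or_exists_moved R hR with hn | ⟨p, hpp, P, hpr, hPn, hP, x, -, hxo, hnc⟩
  · exact not_mem_of_prime_order R hn hR hv
  haveI := Fact.mk hpp
  have hnorm : ∀ Q : Subgroup G, Q.Normal → x ∈ normalizer (Q : Set G) := fun Q hQ => by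
    rw [normalizer_eq_top_iff.mpr hQ]; exact mem_top x
  obtain ⟨a, c, hca, ha, hc, hd⟩ := exists_fixed_exponent hxo hP (hnorm P hPn)
  have hlt : c < a := lt_of_le_of_ne hca fun e =>
    hnc (inf_eq_left.mp (eq_of_le_of_card_ge inf_le_left (by rw [ha, hc, e])))
  have hdvd : p ^ a ∣ Nat.card G := ha ▸ card_subgroup_dvd_card P
  obtain ⟨hfull, hpv⟩ := hp p (a - c - 1) hpp ((pow_dvd_pow p (by omega)).trans hdvd)
    (by rw [show a - c - 1 + 1 = a - c by omega]; exact hd hpr)
  -- no fixed points, and `P` is a Sylow subgroup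
  have hc0 : c = 0 := by
    by_contra h0
    exact hfull ((pow_dvd_pow p (by omega)).trans hdvd)
  subst hc0
  have hfull' : ¬ p ^ (a + 1) ∣ Nat.card G := by
    rwa [show a - 0 - 1 + 2 = a + 1 by omega] at hfull
  obtain ⟨S, hS⟩ := hP.exists_le_sylow
  have hSP : (S : Subgroup G) = P := by
    obtain ⟨k, hk⟩ := S.isPGroup'.exists_card_eq
    refine (eq_of_le_of_card_ge hS ?_).symm
    rw [ha, hk]
    refine Nat.pow_le_pow_right hpp.pos ?_
    by_contra hka
    exact hfull' ((pow_dvd_pow p (by omega)).trans (hk ▸ card_subgroup_dvd_card (S : Subgroup G)))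
  -- the centre is all of `P`
  haveI := hPn
  haveI : Nontrivial P := by
    rw [← Finite.one_lt_card_iff_nontrivial, ha]
    exact Nat.one_lt_pow (by omega) hpp.one_lt
  haveI := hP.center_nontrivial
  set Z := (center P).map P.subtype with hZ
  have hZn : Z.Normal := inferInstance
  have hZle : Z ≤ P := map_subtype_le _
  obtain ⟨z, cz, hcz, hz, hzc, hzd⟩ := exists_fixed_exponent hxo (hP.to_le hZle) (hnorm Z hZn)
  have hcz0 : cz = 0 := by
    by_contra h0
    have h1 := hzc ▸ card_dvd_of_le (inf_le_inf_right (centralizer ({x} : Set G)) hZle)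
    rw [hc, pow_zero, Nat.dvd_one] at h1
    exact absurd h1 (Nat.one_lt_pow h0 hpp.one_lt).ne'
  subst hcz0
  have hz1 : 1 < p ^ z := by
    rw [← hz, hZ, card_map_of_injective P.subtype_injective]
    exact Finite.one_lt_card
  have hz0 : z ≠ 0 := fun e => by rw [e, pow_zero] at hz1; exact lt_irrefl _ hz1
  have hza : z ≤ a := by
    by_contra hza
    exact hfull' ((pow_dvd_pow p (by omega)).trans (hz ▸ card_subgroup_dvd_card Z))
  obtain ⟨hzfull, -⟩ := hp p (z - 1) hpp
    ((pow_dvd_pow p (by omega)).trans hdvd)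
    (by rw [show z - 1 + 1 = z - 0 by omega]; exact hzd hpr)
  have hzea : z = a := by
    by_contra hne
    exact hzfull ((pow_dvd_pow p (by omega)).trans hdvd)
  have hZP : Z = P := eq_of_le_of_card_ge hZle (by rw [ha, hz, hzea])
  refine not_mem_degreePrimes S (hSP ▸ hPn) ?_ hpv
  rw [hSP]
  intro u hu v hv'
  rw [← hZP] at hu
  obtain ⟨u', hu', rfl⟩ := hu
  exact congrArg Subtype.val ((mem_center_iff.mp hu') ⟨v, hv'⟩).symm

/-- An element of prime order `r` normalising a simple subgroup of order prime to `r` centralises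
it, if the counts of Sylow `s`-subgroups leave no other possibility. -/
theorem le_centralizer_of_simple {r s a k : ℕ} [Fact r.Prime] [Fact s.Prime] {M : Subgroup G}
    [M.Normal] [IsSimpleGroup M] (hM : ¬ IsMulCommutative M)
    (hcard : Nat.card M = s ^ a * k) (hk : ¬ s ∣ k) (ha : 0 < a) (hbig : 24 < 2 * (s ^ a * k))
    (hr : ¬ r ∣ k) (hrs : s ≠ r) (hi : ∀ i, i ≤ a → r ∣ s ^ i - 1 → i = 0)
    (hf : ∀ m ∈ k.divisors, m % s = 1 → 5 ≤ m → ∀ f ∈ k.divisors, f ≤ m → f % r = m % r →
      f % s = 1 → f = m)
    {x : G} (hx : orderOf x = r) : M ≤ centralizer ({x} : Set G) := by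
  classical
  set C := (centralizer ({x} : Set G)).subgroupOf M with hC
  let φ : zpowers x →* MulAut M := MulAut.conjNormal.comp (zpowers x).subtype
  letI : MulAction (zpowers x) (Sylow s M) := MulAction.compHom _ φ
  have hHp : IsPGroup r (zpowers x) :=
    IsPGroup.of_card (n := 1) (by rw [Nat.card_zpowers, hx, pow_one])
  have hcardP : ∀ P : Sylow s M, Nat.card (P : Subgroup M) = s ^ a :=
    fun P => SmallOrders.card_sylow_subgroup hcard hk P
  -- fixed Sylow subgroups are those inside `C`
  have hfix : ∀ P : Sylow s M,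
      P ∈ MulAction.fixedPoints (zpowers x) (Sylow s M) ↔ (P : Subgroup M) ≤ C := by
    intro P
    constructor
    · intro hP
      have hPx : (φ ⟨x, mem_zpowers x⟩ • P : Sylow s M) = P := hP ⟨x, mem_zpowers x⟩
      set Q := (P : Subgroup M).map M.subtype
      have hmapx : ∀ y ∈ (P : Subgroup M), φ ⟨x, mem_zpowers x⟩ y ∈ (P : Subgroup M) := by
        intro y hy
        have := congrArg (fun T : Sylow s M => (T : Subgroup M)) hPx
        rw [← this]
        exact ⟨y, hy, rfl⟩
      have hxQ : x ∈ normalizer (Q : Set G) := by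
        refine mem_normalizer_iff.mpr fun y => ⟨?_, ?_⟩
        · rintro ⟨y, hy, rfl⟩
          exact ⟨_, hmapx y hy, MulAut.conjNormal_apply (⟨x, mem_zpowers x⟩ : zpowers x).1 y⟩
        · intro hy
          -- conjugation by `x` is injective on the finite set `Q`
          have hsub : (fun w => x * w * x⁻¹) '' (Q : Set G) ⊆ (Q : Set G) := by
            rintro _ ⟨_, ⟨w, hw, rfl⟩, rfl⟩
            exact ⟨_, hmapx w hw, MulAut.conjNormal_apply (⟨x, mem_zpowers x⟩ : zpowers x).1 w⟩
          have himg : (fun w => x * w * x⁻¹) '' (Q : Set G) = (Q : Set G) :=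
            Set.eq_of_subset_of_ncard_le hsub
              (Set.ncard_image_of_injective _ (fun u v h => by simpa using h)).ge
          obtain ⟨w, hw, hwy⟩ := himg.ge hy
          have : w = y := by simpa using hwy
          exact this ▸ hw
      obtain ⟨e, c, hce, he, hc, hd⟩ := exists_fixed_exponent hx (P.isPGroup'.map M.subtype) hxQ
      have hea : e = a := by
        rw [card_map_of_injective M.subtype_injective, hcardP P] at he
        exact (Nat.pow_right_injective (Fact.out : s.Prime).two_le he).symm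
      have hce' : c = e := by
        have := hi (e - c) (by omega) (hd hrs)
        omega
      have hle : Q ≤ centralizer ({x} : Set G) :=
        inf_eq_left.mp (eq_of_le_of_card_ge inf_le_left (by rw [he, hc, hce']))
      exact fun y hy => hle ⟨y, hy, rfl⟩
    · intro hP g
      apply Sylow.ext
      ext y
      show y ∈ (P : Subgroup M).map (φ g).toMonoidHom ↔ y ∈ (P : Subgroup M)
      have hid : ∀ w ∈ (P : Subgroup M), φ g w = w := by
        intro w hw
        apply Subtype.ext
        show ((MulAut.conjNormal (g : G) w : M) : G) = w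
        rw [MulAut.conjNormal_apply]
        have hcomm : Commute x (w : G) := (mem_centralizer_singleton_iff.mp (hP hw)).symm
        obtain ⟨j, hj⟩ := mem_zpowers_iff.mp g.2
        rw [← hj, (hcomm.zpow_left j).eq, mul_inv_cancel_right]
      constructor
      · rintro ⟨w, hw, rfl⟩
        rw [MulEquiv.coe_toMonoidHom, hid w hw]
        exact hw
      · exact fun hy => ⟨y, hy, hid y hy⟩
  -- counting
  set m := Nat.card (Sylow s M)
  set f := Nat.card (MulAction.fixedPoints (zpowers x) (Sylow s M))
  have hmod : m ≡ f [MOD r] := hHp.card_modEq_card_fixedPoints (Sylow s M)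
  obtain ⟨P0⟩ := (inferInstance : Nonempty (Sylow s M))
  have hk0 : k ≠ 0 := fun e => hk (e ▸ dvd_zero s)
  have hsM : s ∣ Nat.card M := hcard ▸ dvd_mul_of_dvd_left (dvd_pow_self s ha.ne') k
  have hmk : m ∣ k := SmallOrders.index_sylow hcard hk P0 ▸ P0.card_dvd_index
  have hm1 : m % s = 1 := by
    have := card_sylow_modEq_one s M
    rwa [Nat.ModEq, Nat.one_mod_eq_one.mpr (Fact.out : s.Prime).ne_one] at this
  have hm5 : 5 ≤ m := by
    have h1 := SmallOrders.one_lt_card_sylow hM hsM
    have h2 := Nat.le_of_dvd (Nat.factorial_pos _) (SmallOrders.two_mul_card_dvd_factorial_sylow hM hsM)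
    rw [hcard] at h2
    by_contra h5
    have h4 : Nat.factorial m ≤ Nat.factorial 4 := Nat.factorial_le (by omega)
    exact absurd ((h2.trans h4).trans (le_of_eq (rfl : Nat.factorial 4 = 24))) (not_le.mpr hbig)
  -- some Sylow subgroup is fixed
  have hf0 : f ≠ 0 := by
    intro h0
    rw [h0] at hmod
    exact hr ((Nat.modEq_zero_iff_dvd.mp hmod).trans hmk)
  obtain ⟨P1, hP1⟩ := (Nat.card_ne_zero.mp hf0).1
  have hP1C := (hfix P1).mp hP1
  have hf' : f = Nat.card (Sylow s C) := by
    have hcardC : ∀ T : Sylow s C, Nat.card (T : Subgroup C) = s ^ a := by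
      intro T
      obtain ⟨T', hT'⟩ := (T.isPGroup'.map C.subtype).exists_le_sylow
      refine le_antisymm ?_ ?_
      · have := Subgroup.card_le_of_le hT'
        rwa [card_map_of_injective C.subtype_injective, hcardP] at this
      · have h1 : IsPGroup s ((P1 : Subgroup M).subgroupOf C) :=
          P1.isPGroup'.of_equiv (subgroupOfEquivOfLe hP1C).symm
        obtain ⟨T1, hT1⟩ := h1.exists_le_sylow
        obtain ⟨g, hg⟩ := MulAction.exists_smul_eq C T1 T
        have h2 := Subgroup.card_le_of_le hT1
        rw [Nat.card_congr (subgroupOfEquivOfLe hP1C).toEquiv, hcardP] at h2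
        rw [← hg]
        exact h2.trans (le_of_eq (Nat.card_congr (T1.equivSMul g).toEquiv))
    refine (Nat.card_congr (Equiv.ofBijective
      (fun T : MulAction.fixedPoints (zpowers x) (Sylow s M) => T.1.subtype ((hfix T.1).mp T.2))
      ⟨fun T T' e => Subtype.ext (Sylow.subtype_injective e), fun T => ?_⟩))
    obtain ⟨T', hT'⟩ := (T.isPGroup'.map C.subtype).exists_le_sylow
    have heq : (T : Subgroup C).map C.subtype = (T' : Subgroup M) :=
      eq_of_le_of_card_ge hT' (by rw [card_map_of_injective C.subtype_injective, hcardC, hcardP])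
    have hT'C : (T' : Subgroup M) ≤ C := heq ▸ map_subtype_le _
    refine ⟨⟨T', (hfix T').mpr hT'C⟩, Sylow.ext ?_⟩
    rw [Sylow.coe_subtype]
    show (T' : Subgroup M).subgroupOf C = T
    rw [← heq, subgroupOf, comap_map_eq_self_of_injective C.subtype_injective]
  have hf1 : f % s = 1 := by
    have := card_sylow_modEq_one s C
    rw [← hf'] at this
    rwa [Nat.ModEq, Nat.one_mod_eq_one.mpr (Fact.out : s.Prime).ne_one] at this
  have hfk : f ∣ k := by
    rw [hf']
    obtain ⟨T⟩ := (inferInstance : Nonempty (Sylow s C))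
    refine T.card_dvd_index.trans ?_
    have hT : Nat.card (T : Subgroup C) = s ^ a := by
      obtain ⟨T', hT'⟩ := (T.isPGroup'.map C.subtype).exists_le_sylow
      obtain ⟨j, hj⟩ := T.isPGroup'.exists_card_eq
      refine le_antisymm ?_ (Nat.le_of_dvd Nat.card_pos ?_)
      · have := Subgroup.card_le_of_le hT'
        rwa [card_map_of_injective C.subtype_injective, hcardP] at this
      · refine T.pow_dvd_card_of_pow_dvd_card ?_
        rw [← hcardP P1]
        exact card_dvd_of_le hP1C
    have h1 := (T : Subgroup C).card_mul_index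
    have h2 : Nat.card C ∣ s ^ a * k := hcard ▸ card_subgroup_dvd_card C
    rw [← h1, hT] at h2
    exact (Nat.mul_dvd_mul_iff_left (pow_pos (Fact.out : s.Prime).pos a)).mp h2
  have hfm : f = m := hf m (Nat.mem_divisors.mpr ⟨hmk, hk0⟩) hm1 hm5 f
    (Nat.mem_divisors.mpr ⟨hfk, hk0⟩)
    (Nat.card_le_card_of_injective _ Subtype.val_injective) hmod.symm hf1
  have hall : ∀ P : Sylow s M, (P : Subgroup M) ≤ C := by
    intro P
    refine (hfix P).mp ?_
    have : MulAction.fixedPoints (zpowers x) (Sylow s M) = Set.univ :=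
      Set.eq_of_subset_of_ncard_le (Set.subset_univ _)
        (by rw [Set.ncard_univ, ← Nat.card_coe_set_eq]; exact hfm.ge)
    rw [this]; exact Set.mem_univ _
  -- the normal closure of one Sylow subgroup is everything
  have hN : normalClosure ((P0 : Subgroup M) : Set M) = ⊤ := by
    refine (normalClosure_normal.eq_bot_or_eq_top).resolve_left fun e => ?_
    have : (P0 : Subgroup M) = ⊥ := le_bot_iff.mp (e ▸ subset_normalClosure)
    exact P0.ne_bot_of_dvd_card hsM this
  intro y hy
  have hle : normalClosure ((P0 : Subgroup M) : Set M) ≤ C := by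
    rw [normalClosure, closure_le]
    intro w hw
    obtain ⟨u, hu, hc⟩ := Group.mem_conjugatesOfSet_iff.mp hw
    obtain ⟨g, rfl⟩ := isConj_iff.mp hc
    exact hall (g • P0) ⟨u, hu, rfl⟩
  exact hle (hN ▸ mem_top (⟨y, hy⟩ : M))

end Cfsg.Agent.SmallDegreeGraph
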