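-- Vertices and edges of the degree graphs of the simple groups of order less than 6000.
--
-- * `mem_degreePrimes_of_centralizer`: a self-centralising element of prime order, many classes
-- * `degreePrimes_eq_of_three`: three primes in the order
-- * `vertex_2520`, `psl_facts`
import Cfsg.Agent.Lib.SmallDegreeGraph.Tools
import Cfsg.Agent.Lib.SmallOrders.Order2520.Sylow
import Cfsg.Agent.Lib.Char.Linear
import Cfsg.Agent.S4774
import Cfsg.Agent.S4812
import Cfsg.Agent.S4782
import Mathlib.FieldTheory.Finite.GaloisField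

set_option autoImplicit false
set_option linter.style.haveILetI false

namespace Cfsg.Agent.SmallDegreeGraph

open Cfsg Cfsg.Agent.Char

/-- A multiset of `r` naturals with total prime to `r` is far from constant. -/
theorem spread_le {ι : Type*} [Fintype ι] (m : ι → ℤ) (r : ℕ) (hr : Fintype.card ι = r)
    (hd : ¬ (r : ℤ) ∣ ∑ i, m i) :
    (r : ℤ) - 1 ≤ r * ∑ i, m i ^ 2 - (∑ i, m i) ^ 2 := by
  classical
  have hne : (Finset.univ : Finset ι).Nonempty := by
    rcases isEmpty_or_nonempty ι with h | h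
    · exact absurd (by simp) hd
    · exact Finset.univ_nonempty
  obtain ⟨j, -, hj⟩ := Finset.exists_max_image Finset.univ m hne
  set T := Finset.univ.filter fun i => m i = m j with hT
  have hTc : Tᶜ.Nonempty := by
    by_contra h
    rw [Finset.not_nonempty_iff_eq_empty, Finset.compl_eq_empty_iff] at h
    refine hd ?_
    have hall : ∀ i, m i = m j := fun i => (Finset.mem_filter.mp (h ▸ Finset.mem_univ i : i ∈ T)).2
    rw [Finset.sum_congr rfl fun i _ => hall i, Finset.sum_const, Finset.card_univ, hr, nsmul_eq_mul]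
    exact dvd_mul_right _ _
  have h1 : 1 ≤ T.card := Finset.card_pos.mpr ⟨j, Finset.mem_filter.mpr ⟨Finset.mem_univ j, rfl⟩⟩
  have h2 : 1 ≤ Tᶜ.card := Finset.card_pos.mpr hTc
  have h3 : T.card + Tᶜ.card = r := by rw [Finset.card_add_card_compl, hr]
  have key : 2 * ((T.card : ℤ) * Tᶜ.card) ≤ ∑ i, ∑ k, (m i - m k) ^ 2 := by
    have hcross : ∀ i ∈ T, (Tᶜ.card : ℤ) ≤ ∑ k ∈ Tᶜ, (m i - m k) ^ 2 := by
      intro i hi
      have : ∀ k ∈ Tᶜ, (1 : ℤ) ≤ (m i - m k) ^ 2 := by
        intro k hk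
        have hne : m k ≠ m j := fun e =>
          Finset.mem_compl.mp hk (Finset.mem_filter.mpr ⟨Finset.mem_univ k, e⟩)
        have hij := (Finset.mem_filter.mp hi).2
        have : m i - m k ≠ 0 := by omega
        have := sq_pos_of_ne_zero this
        omega
      simpa using Finset.sum_le_sum this
    have hA : (T.card : ℤ) * Tᶜ.card ≤ ∑ i ∈ T, ∑ k ∈ Tᶜ, (m i - m k) ^ 2 := by
      simpa using Finset.sum_le_sum hcross
    have hsymm : ∑ i ∈ Tᶜ, ∑ k ∈ T, (m i - m k) ^ 2 = ∑ i ∈ T, ∑ k ∈ Tᶜ, (m i - m k) ^ 2 := by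
      rw [Finset.sum_comm]
      exact Finset.sum_congr rfl fun i _ => Finset.sum_congr rfl fun k _ => by ring
    have hsplit : ∀ g : ι → ℤ, ∑ i, g i = ∑ i ∈ T, g i + ∑ i ∈ Tᶜ, g i :=
      fun g => (Finset.sum_add_sum_compl T g).symm
    have hfull : ∑ i ∈ T, ∑ k ∈ Tᶜ, (m i - m k) ^ 2 ≤ ∑ i ∈ T, ∑ k, (m i - m k) ^ 2 :=
      Finset.sum_le_sum fun i _ => Finset.sum_le_sum_of_subset_of_nonneg (Finset.subset_univ _)
        fun k _ _ => sq_nonneg _
    have hfull' : ∑ i ∈ Tᶜ, ∑ k ∈ T, (m i - m k) ^ 2 ≤ ∑ i ∈ Tᶜ, ∑ k, (m i - m k) ^ 2 :=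
      Finset.sum_le_sum fun i _ => Finset.sum_le_sum_of_subset_of_nonneg (Finset.subset_univ _)
        fun k _ _ => sq_nonneg _
    rw [hsplit fun i => ∑ k, (m i - m k) ^ 2]
    linarith
  have hid : ∑ i, ∑ k, (m i - m k) ^ 2 = 2 * ((r : ℤ) * ∑ i, m i ^ 2 - (∑ i, m i) ^ 2) := by
    have h : ∀ i k, (m i - m k) ^ 2 = m i ^ 2 + m k ^ 2 - 2 * (m i * m k) := fun i k => by ring
    simp only [h, Finset.sum_sub_distrib, Finset.sum_add_distrib, ← Finset.mul_sum, ← Finset.sum_mul,
      Finset.sum_const, Finset.card_univ, hr, nsmul_eq_mul]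
    ring
  have hst : (r : ℤ) - 1 ≤ (T.card : ℤ) * Tᶜ.card := by
    rw [← h3]
    push_cast
    nlinarith
  linarith

/-- the squared values on a group of prime order, for a character of degree prime to it -/
theorem spread_values {R : Type*} [Group R] [Fintype R] {r : ℕ} (hr : r.Prime) (hR : Nat.card R = r)
    {ψ : R → ℂ} (hψ : IsCharacter R ψ) {d : ℕ} (hd : ψ 1 = d) (hrd : ¬ r ∣ d) :
    (r : ℝ) - 1 ≤ (∑ g, Complex.normSq (ψ g)) - Complex.normSq (ψ 1) := by
  classical
  haveI := Fintype.ofFinite (IrrCharacter R)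
  haveI := Fact.mk hr
  haveI := isCyclic_of_prime_card hR
  have hcomm : ∀ a b : R, a * b = b * a := fun a b =>
    (IsCyclic.isMulCommutative (α := R)).is_comm.comm a b
  obtain ⟨m, hm, -⟩ := IsCharacter.decompose hψ
  have hsum : (d : ℤ) = ∑ φ, (m φ : ℤ) := by
    have h1 : ψ 1 = ∑ φ : IrrCharacter R, (m φ : ℂ) := by
      conv_lhs => rw [hm]
      simp [apply_one_eq_one_of_comm hcomm]
    rw [hd] at h1
    exact_mod_cast h1
  have hnorm : classInner ψ ψ = ((∑ φ, (m φ : ℤ) ^ 2 : ℤ) : ℂ) := by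
    conv_lhs => arg 1; rw [hm]
    rw [classInner_sum_left]
    push_cast
    refine Finset.sum_congr rfl fun φ _ => ?_
    rw [classInner_smul_left, sq]
    congr 1
    conv_lhs => arg 2; rw [hm]
    rw [classInner_sum_right, Finset.sum_eq_single φ (fun b _ hb => by
      rw [classInner_smul_right, classInner_irr_of_ne φ.2 b.2 (fun e => hb (Subtype.ext e.symm)),
        mul_zero]) (fun h => absurd (Finset.mem_univ _) h),
      classInner_smul_right, classInner_irr_self φ.2, mul_one, Complex.conj_natCast]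
  have hcard : Fintype.card (IrrCharacter R) = r := by
    rw [← Nat.card_eq_fintype_card, card_irr_eq_card_conjClasses, card_conjClasses_of_comm hcomm, hR]
  have hle := spread_le (fun φ => (m φ : ℤ)) r hcard (by rw [← hsum]; exact_mod_cast hrd)
  have hs : ((∑ g, Complex.normSq (ψ g) : ℝ) : ℂ) = (r : ℂ) * classInner ψ ψ := by
    rw [← hR, card_mul_classInner, Complex.ofReal_sum]
    exact Finset.sum_congr rfl fun g _ => (Complex.mul_conj _).symm
  rw [hnorm] at hs
  have hs' : (∑ g, Complex.normSq (ψ g) : ℝ) = (r : ℝ) * ((∑ φ, (m φ : ℤ) ^ 2 : ℤ) : ℝ) := by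
    exact_mod_cast hs
  rw [hs', hd, Complex.normSq_natCast]
  have hle' : ((r : ℤ) - 1 : ℝ) ≤ (r : ℝ) * ((∑ φ, (m φ : ℤ) ^ 2 : ℤ) : ℝ) -
      ((∑ φ, (m φ : ℤ) : ℤ) : ℝ) ^ 2 := by exact_mod_cast hle
  rw [← hsum] at hle'
  push_cast at hle' ⊢
  linarith

/-- A self-centralising element of prime order `r` and more than `r` classes: `r` is a vertex. -/
theorem mem_degreePrimes_of_centralizer {G : Type*} [Group G] [Finite G] {r : ℕ} (hr : r.Prime)
    {x : G} (hx : orderOf x = r)
    (hC : ∀ y ∈ Subgroup.zpowers x, y ≠ 1 → Nat.card (Subgroup.centralizer ({y} : Set G)) = r)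
    (hk : r < Nat.card (ConjClasses G)) : r ∈ degreePrimes G := by
  classical
  haveI := Fintype.ofFinite G
  haveI := Fintype.ofFinite (IrrCharacter G)
  by_contra hno
  set R := Subgroup.zpowers x
  have hR : Nat.card R = r := by rw [Nat.card_zpowers, hx]
  have hlow : ∀ χ : IrrCharacter G, (r : ℝ) - 1 ≤
      ∑ y ∈ Finset.univ.erase (1 : R), Complex.normSq ((χ : G → ℂ) y) := by
    intro χ
    have h := spread_values hr hR (IsCharacter.restrict (IsIrrCharacter.isCharacter χ.2) R)
      (d := charDegree (χ : G → ℂ)) (by simpa using CharApp.DegreeSets.apply_one χ.2)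
      (fun hd => hno ⟨hr, _, ⟨χ, rfl⟩, hd⟩)
    rw [Finset.sum_erase_eq_sub (Finset.mem_univ _)]
    simpa using h
  have hcol : ∀ y ∈ Finset.univ.erase (1 : R),
      ∑ χ : IrrCharacter G, Complex.normSq ((χ : G → ℂ) y) = (r : ℝ) := by
    intro y hy
    have hy1 : (y : G) ≠ 1 := fun e => (Finset.mem_erase.mp hy).1 (Subtype.ext e)
    have h := column_orth (G := G) (y : G) (y : G)
    rw [if_pos (IsConj.refl _), hC y y.2 hy1] at h
    have h' : ((∑ χ : IrrCharacter G, Complex.normSq ((χ : G → ℂ) y) : ℝ) : ℂ) = (r : ℂ) := by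
      rw [← h, Complex.ofReal_sum]
      exact Finset.sum_congr rfl fun g _ => (Complex.mul_conj _).symm
    exact_mod_cast h'
  have h := Finset.sum_le_sum fun χ (_ : χ ∈ (Finset.univ : Finset (IrrCharacter G))) => hlow χ
  rw [Finset.sum_comm, Finset.sum_congr rfl hcol] at h
  simp only [Finset.sum_const, Finset.card_univ, nsmul_eq_mul,
    Finset.card_erase_of_mem (Finset.mem_univ _)] at h
  rw [← Nat.card_eq_fintype_card, ← Nat.card_eq_fintype_card, hR, card_irr_eq_card_conjClasses,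
    Nat.cast_sub hr.one_le, Nat.cast_one] at h
  have h1 : (r : ℝ) + 1 ≤ (Nat.card (ConjClasses G) : ℝ) := by exact_mod_cast hk
  have h2 : (2 : ℝ) ≤ r := by exact_mod_cast hr.two_le
  nlinarith

/-- The vertices of a non-abelian simple group whose order has three prime divisors. -/
theorem degreePrimes_eq_of_three {S : Type*} [Group S] [Finite S] (hns : ¬ Group.IsSolvable S)
    {a b c : ℕ} (h : ∀ p : ℕ, p.Prime → p ∣ Nat.card S → p = a ∨ p = b ∨ p = c) :
    a ∈ degreePrimes S ∧ b ∈ degreePrimes S ∧ c ∈ degreePrimes S := by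
  obtain ⟨p, q, r, hpq, hqr, hpr, hp, hq, hr⟩ := S4782.result hns
  have mem : ∀ s ∈ degreePrimes S, s = a ∨ s = b ∨ s = c := by
    rintro s ⟨hs, d, ⟨χ, rfl⟩, hd⟩
    exact h s hs (hd.trans (Codegree.deg_dvd_card χ))
  refine ⟨?_, ?_, ?_⟩
  all_goals
    rcases mem p hp with rfl | rfl | rfl <;> rcases mem q hq with rfl | rfl | rfl <;>
      rcases mem r hr with rfl | rfl | rfl <;> first | assumption | contradiction

/-- the pair (fixed points, fixed points of the square) separates enough classes of `A7` -/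
theorem eight_le_card_conjClasses :
    8 ≤ Nat.card (ConjClasses (alternatingGroup (Fin 7))) := by
  let inv : alternatingGroup (Fin 7) → ℕ × ℕ := fun g =>
    ((Finset.univ.filter fun i => (g : Equiv.Perm (Fin 7)) i = i).card,
      (Finset.univ.filter fun i => ((g * g : alternatingGroup (Fin 7)) : Equiv.Perm (Fin 7)) i = i).card)
  have hinv : ∀ g k : alternatingGroup (Fin 7), IsConj g k → inv g = inv k := by
    intro g k hgk
    obtain ⟨c, rfl⟩ := isConj_iff.mp hgk
    have key : ∀ g : alternatingGroup (Fin 7),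
        (Finset.univ.filter fun i => (g : Equiv.Perm (Fin 7)) i = i).card =
        (Finset.univ.filter fun i =>
          ((c * g * c⁻¹ : alternatingGroup (Fin 7)) : Equiv.Perm (Fin 7)) i = i).card := fun g =>
      Finset.card_equiv (c : Equiv.Perm (Fin 7)) fun i => by
        rw [Finset.mem_filter, Finset.mem_filter]
        simp [Equiv.Perm.mul_apply]
    refine Prod.ext (key g) ?_
    show _ = (Finset.univ.filter fun i =>
      (((c * g * c⁻¹) * (c * g * c⁻¹) : alternatingGroup (Fin 7)) : Equiv.Perm (Fin 7)) i = i).card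
    rw [show (c * g * c⁻¹) * (c * g * c⁻¹) = c * (g * g) * c⁻¹ by group]
    exact key (g * g)
  let w : Fin 8 → alternatingGroup (Fin 7) :=
    ![1,
      ⟨Equiv.swap 0 1 * Equiv.swap 2 3, Equiv.Perm.mem_alternatingGroup.mpr (by decide +kernel)⟩,
      ⟨Equiv.swap 0 1 * Equiv.swap 1 2, Equiv.Perm.mem_alternatingGroup.mpr (by decide +kernel)⟩,
      ⟨Equiv.swap 0 1 * Equiv.swap 1 2 * (Equiv.swap 3 4 * Equiv.swap 4 5), Equiv.Perm.mem_alternatingGroup.mpr (by decide +kernel)⟩,
      ⟨Equiv.swap 0 1 * Equiv.swap 1 2 * (Equiv.swap 3 4 * Equiv.swap 5 6), Equiv.Perm.mem_alternatingGroup.mpr (by decide +kernel)⟩,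
      ⟨Equiv.swap 0 1 * Equiv.swap 1 2 * Equiv.swap 2 3 * Equiv.swap 4 5, Equiv.Perm.mem_alternatingGroup.mpr (by decide +kernel)⟩,
      ⟨Equiv.swap 0 1 * Equiv.swap 1 2 * Equiv.swap 2 3 * Equiv.swap 3 4, Equiv.Perm.mem_alternatingGroup.mpr (by decide +kernel)⟩,
      ⟨Equiv.swap 0 1 * Equiv.swap 1 2 * Equiv.swap 2 3 * Equiv.swap 3 4 * Equiv.swap 4 5 *
        Equiv.swap 5 6, Equiv.Perm.mem_alternatingGroup.mpr (by decide +kernel)⟩]
  have hw : Function.Injective (inv ∘ w) := by decide +kernel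
  have hinj : Function.Injective fun i => ConjClasses.mk (w i) := fun i j e =>
    hw (hinv _ _ (ConjClasses.mk_eq_mk_iff_isConj.mp e))
  simpa using Nat.card_le_card_of_injective _ hinj

/-- five and seven are vertices for the order 2520 -/
theorem vertex_2520 {S : Type*} [Group S] [Finite S] [IsSimpleGroup S] (h : Nat.card S = 2520)
    {r : ℕ} (hr : r = 5 ∨ r = 7) : r ∈ degreePrimes S := by
  haveI : Fact r.Prime := ⟨by rcases hr with rfl | rfl <;> norm_num⟩
  obtain ⟨x, hx⟩ := exists_prime_orderOf_dvd_card' (G := S) r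
    (by rcases hr with rfl | rfl <;> rw [h] <;> norm_num)
  refine mem_degreePrimes_of_centralizer Fact.out hx ?_ ?_
  · intro y hy hy1
    have ho : orderOf y = r := by
      rcases (Nat.dvd_prime Fact.out).mp
        (hx ▸ orderOf_dvd_of_mem_zpowers hy : orderOf y ∣ r) with e | e
      · exact absurd (orderOf_eq_one_iff.mp e) hy1
      · exact e
    rcases hr with rfl | rfl
    · exact (SmallOrders.S2520.five h y ho).1
    · exact SmallOrders.S2520.seven h y ho
  · obtain ⟨e⟩ := S0984.result h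
    have hmap : Nat.card (ConjClasses (alternatingGroup (Fin 7))) ≤ Nat.card (ConjClasses S) :=
      Nat.card_le_card_of_surjective (ConjClasses.map e.toMonoidHom)
        (ConjClasses.map_surjective e.surjective)
    have := eight_le_card_conjClasses
    omega

/-- degree graph of a simple group with the order of `PSL(2, q)`, `q` an odd prime power -/
theorem psl_odd_facts {S : Type*} [Group S] [Finite S] [IsSimpleGroup S] (hS : ¬ IsMulCommutative S)
    (hlt : Nat.card S < 6000) (F : Type) [Field F] [Fintype F] (p : ℕ) [Fact p.Prime] [CharP F p]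
    (hp : p ≠ 2) (h5 : 5 < Fintype.card F)
    (hcard : Fintype.card F * (Fintype.card F ^ 2 - 1) = 2 * Nat.card S) :
    degreePrimes S = {r : ℕ | r.Prime ∧ r ∣ Fintype.card F * (Fintype.card F ^ 2 - 1)} ∧
      ∀ r s : ℕ, (degreeGraph S).Adj r s ↔ (r ≠ s ∧ r.Prime ∧ s.Prime ∧
        r ∣ Fintype.card F ^ 2 - 1 ∧ s ∣ Fintype.card F ^ 2 - 1 ∧
        (r = 2 ∨ s = 2 ∨ (r ∣ Fintype.card F + 1 ∧ s ∣ Fintype.card F + 1) ∨
          (r ∣ Fintype.card F - 1 ∧ s ∣ Fintype.card F - 1))) := by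
  classical
  haveI : IsSimpleGroup (Matrix.ProjectiveSpecialLinearGroup (Fin 2) F) :=
    Matrix.ProjectiveSpecialLinearGroup.rank_two_simple (by rw [Nat.card_eq_fintype_card]; omega)
  have hodd : Odd (Nat.card F) := by
    obtain ⟨n, hq, hn⟩ := FiniteField.card F p
    rw [Nat.card_eq_fintype_card, hn]
    exact (hq.odd_of_ne_two hp).pow
  have hP : Nat.card (Matrix.ProjectiveSpecialLinearGroup (Fin 2) F) = Nat.card S := by
    have h2 := GLOrder.card_PSL_two_of_odd (F := F) hodd
    rw [Nat.card_eq_fintype_card (α := F), hcard] at h2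
    omega
  obtain ⟨e⟩ := mulEquiv_of_card_eq hS hlt hP
  exact S4774.result F p hp _ rfl h5 (Or.inl ⟨e.symm⟩)

/-- degree graph of a simple group with the order of `PSL(2, q)`, `q` a power of two -/
theorem psl_even_facts {S : Type*} [Group S] [Finite S] [IsSimpleGroup S] (hS : ¬ IsMulCommutative S)
    (hlt : Nat.card S < 6000) (F : Type) [Field F] [Fintype F] [CharP F 2]
    (h4 : 4 ≤ Fintype.card F) (hev : Even (Fintype.card F))
    (hcard : Fintype.card F * (Fintype.card F ^ 2 - 1) = Nat.card S) :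
    degreePrimes S = {r : ℕ | r.Prime ∧ r ∣ Fintype.card F * (Fintype.card F ^ 2 - 1)} ∧
      ∀ r s : ℕ, (degreeGraph S).Adj r s ↔ (r ≠ s ∧ r.Prime ∧ s.Prime ∧
        ((r ∣ Fintype.card F + 1 ∧ s ∣ Fintype.card F + 1) ∨
          (r ∣ Fintype.card F - 1 ∧ s ∣ Fintype.card F - 1))) := by
  classical
  haveI : IsSimpleGroup (Matrix.ProjectiveSpecialLinearGroup (Fin 2) F) :=
    Matrix.ProjectiveSpecialLinearGroup.rank_two_simple (by rw [Nat.card_eq_fintype_card]; omega)
  have hP : Nat.card (Matrix.ProjectiveSpecialLinearGroup (Fin 2) F) = Nat.card S := by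
    rw [GLOrder.card_PSL_two_of_even (by rw [Nat.card_eq_fintype_card]; exact hev),
      Nat.card_eq_fintype_card, hcard]
  obtain ⟨e⟩ := mulEquiv_of_card_eq hS hlt hP
  exact S4812.result F _ rfl h4 (Or.inl ⟨e.symm⟩)

end Cfsg.Agent.SmallDegreeGraph
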