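-- A group of order 360 with a section of order 60.
--
-- * `false_of_section`: it has an edge 2 – 3 as soon as it has an edge 2 – 5
import Cfsg.Agent.Lib.SmallDegreeGraph.Action
import Cfsg.Agent.Lib.SmallDegreeGraph.Vertices
import Cfsg.Agent.Lib.CharApp.Clifford
import Cfsg.Agent.Lib.CharApp.CoprimeFixed

set_option autoImplicit false
set_option linter.style.haveILetI false

namespace Cfsg.Agent.SmallDegreeGraph

open Subgroup Cfsg Cfsg.Agent.Char

variable {G : Type*} [Group G] [Finite G]

/-- no element of order three over the simple group of order 60 -/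
theorem not_three_dvd {M : Subgroup G} [M.Normal] [IsSimpleGroup M] (hM : ¬ IsMulCommutative M)
    (h60 : Nat.card M = 60) (hC : centralizer (M : Set G) = ⊥) {j : ℕ}
    (hG : Nat.card G = 60 * j) : ¬ 3 ∣ j := by
  classical
  intro hj
  haveI := Fact.mk Nat.prime_five
  haveI := Fact.mk Nat.prime_three
  set S := Sylow 5 M
  let φ : G →* Equiv.Perm S := (MulAction.toPermHom (MulAut M) S).comp MulAut.conjNormal
  have h6 : Nat.card S = 6 := by
    obtain ⟨P⟩ := (inferInstance : Nonempty S)
    have hd : Nat.card S ∣ 12 :=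
      SmallOrders.index_sylow (show Nat.card M = 5 ^ 1 * 12 by rw [h60]; norm_num) (by norm_num) P ▸
        P.card_dvd_index
    have hm : Nat.card S % 5 = 1 % 5 := card_sylow_modEq_one 5 M
    have h1 : 1 < Nat.card S := SmallOrders.one_lt_card_sylow hM (by rw [h60]; norm_num)
    have := Nat.le_of_dvd (by norm_num) hd
    interval_cases h : Nat.card S <;> omega
  -- the action is transitive and faithful
  have hsmul : ∀ (m : M) (P : S), φ (m : G) P = m • P := by
    intro m P
    show (MulAut.conjNormal (m : G) : MulAut M) • P = m • P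
    rw [MulAut.conjNormal_val]
    rfl
  have hfaith : ∀ y : G, (∀ P : S, φ y P = P) → y = 1 := by
    have hker : φ.ker ⊓ M = ⊥ := by
      rcases (inferInstance : ((φ.ker ⊓ M).subgroupOf M).Normal).eq_bot_or_eq_top with e | e
      · rw [eq_bot_iff]
        intro y hy
        have : (⟨y, hy.2⟩ : M) ∈ (φ.ker ⊓ M).subgroupOf M := hy
        rw [e, mem_bot] at this
        exact mem_bot.mpr (congrArg Subtype.val this)
      · obtain ⟨P⟩ := (inferInstance : Nonempty S)
        exfalso
        apply SmallOrders.normalizer_sylow_ne_top hM (by rw [h60]; norm_num) P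
        rw [eq_top_iff]
        intro m _
        have hm : m ∈ (φ.ker ⊓ M).subgroupOf M := e ▸ mem_top m
        have hm1 : φ (m : G) = 1 := MonoidHom.mem_ker.mp hm.1
        have h1 : φ (m : G) P = P := by rw [hm1]; rfl
        exact Sylow.smul_eq_iff_mem_normalizer.mp ((hsmul m P).symm.trans h1)
    intro y hy
    have hk : φ.ker ≤ centralizer (M : Set G) := by
      intro a ha
      rw [mem_centralizer_iff]
      intro m hm
      have hin : a * m * a⁻¹ * m⁻¹ ∈ φ.ker ⊓ M := by
        refine ⟨?_, M.mul_mem ((inferInstance : M.Normal).conj_mem m hm a) (M.inv_mem hm)⟩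
        rw [show a * m * a⁻¹ * m⁻¹ = a * (m * a⁻¹ * m⁻¹) by group]
        exact φ.ker.mul_mem ha ((MonoidHom.normal_ker φ).conj_mem _ (φ.ker.inv_mem ha) m)
      rw [hker, mem_bot, mul_inv_eq_one, mul_inv_eq_iff_eq_mul] at hin
      exact hin.symm
    have : y ∈ φ.ker := by
      rw [MonoidHom.mem_ker]
      exact Equiv.Perm.ext fun P => hy P
    exact mem_bot.mp (hC ▸ hk this)
  -- an element of order three fixing a point
  obtain ⟨P⟩ := (inferInstance : Nonempty S)
  let St : Subgroup G := (MulAction.stabilizer (Equiv.Perm S) P).comap φ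
  have hst : 3 ∣ Nat.card St := by
    have horb : St.index = 6 := by
      rw [← h6]
      refine Nat.card_congr (Equiv.ofBijective
        (Quotient.lift (fun a : G => φ a P) ?_) ⟨?_, ?_⟩)
      · intro a b hab
        have h : φ (a⁻¹ * b) P = P := QuotientGroup.leftRel_apply.mp hab
        show φ a P = φ b P
        conv_rhs => rw [← mul_inv_cancel_left a b, map_mul, Equiv.Perm.mul_apply, h]
      · rintro ⟨a⟩ ⟨b⟩ hab
        refine Quotient.sound (QuotientGroup.leftRel_apply.mpr ?_)
        show φ (a⁻¹ * b) P = P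
        change φ a P = φ b P at hab
        rw [map_mul, Equiv.Perm.mul_apply, ← hab, ← Equiv.Perm.mul_apply, ← map_mul, inv_mul_cancel,
          map_one, Equiv.Perm.one_apply]
      · intro T
        obtain ⟨m, hm⟩ := MulAction.exists_smul_eq M P T
        exact ⟨Quotient.mk'' (m : G), (hsmul m P).trans hm⟩
    have h1 := St.card_mul_index
    rw [horb, hG] at h1
    obtain ⟨i, rfl⟩ := hj
    exact ⟨10 * i, by omega⟩
  obtain ⟨y, hy⟩ := exists_prime_orderOf_dvd_card' (G := St) 3 hst
  have hy3 : orderOf (y : G) = 3 := by rw [orderOf_coe, hy]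
  have hyP : φ (y : G) P = P := y.2
  have hPc : Nat.card (P : Subgroup M) = 5 :=
    (SmallOrders.card_sylow_subgroup (show Nat.card M = 5 ^ 1 * 12 by rw [h60]; norm_num)
      (by norm_num) P).trans (by norm_num)
  obtain ⟨g, hg⟩ := exists_prime_orderOf_dvd_card' (G := (P : Subgroup M)) 5 (by rw [hPc])
  set Q := (P : Subgroup M).map M.subtype
  have hQc : Nat.card Q = 5 := by rw [card_map_of_injective M.subtype_injective, hPc]
  have hyQ : (y : G) ∈ normalizer (Q : Set G) := by
    have hmap : ∀ (a : G), φ a P = P → ∀ w ∈ Q, a * w * a⁻¹ ∈ Q := by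
      rintro a ha _ ⟨w, hw, rfl⟩
      refine ⟨MulAut.conjNormal a w, ?_, MulAut.conjNormal_apply a w⟩
      have h : (P : Subgroup M).map (MulAut.conjNormal a : MulAut M).toMonoidHom = (P : Subgroup M) :=
        congrArg (fun T : S => (T : Subgroup M)) ha
      exact h.le ⟨w, hw, rfl⟩
    refine mem_normalizer_iff.mpr fun w => ⟨hmap _ hyP w, fun h => ?_⟩
    have hinv : φ ((y : G)⁻¹) P = P := by
      conv_lhs => arg 2; rw [← hyP]
      rw [← Equiv.Perm.mul_apply, ← map_mul, inv_mul_cancel, map_one, Equiv.Perm.one_apply]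
    have := hmap _ hinv _ h
    simpa [mul_assoc] using this
  have hfixQ : Q ≤ centralizer ({(y : G)} : Set G) := by
    have hmod := SmallOrders.card_inf_centralizer_modEq hy3 hyQ
    have hd := card_dvd_of_le (inf_le_left : Q ⊓ centralizer ({(y : G)} : Set G) ≤ Q)
    rw [hQc] at hmod hd
    rcases (Nat.dvd_prime Nat.prime_five).mp hd with e | e
    · rw [e] at hmod; exact absurd hmod (by decide)
    · exact inf_eq_left.mp (eq_of_le_of_card_ge inf_le_left (by rw [hQc, e]))
  have hcomm : Commute (y : G) ((g : M) : G) :=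
    (mem_centralizer_singleton_iff.mp (hfixQ ⟨g, g.2, rfl⟩)).symm
  have hfix : ∀ R : S, (g : M) • R = R → R = P := by
    intro R hR
    have hle : (P : Subgroup M) ≤ normalizer ((R : Subgroup M) : Set M) := by
      have hgen : zpowers (g : M) = (P : Subgroup M) :=
        eq_of_le_of_card_ge (zpowers_le.mpr g.2) (by rw [Nat.card_zpowers, orderOf_coe, hg, hPc])
      rw [← hgen, zpowers_le]
      exact Sylow.smul_eq_iff_mem_normalizer.mp hR
    have h1 := P.isPGroup'.inf_normalizer_sylow R
    have hle' : (P : Subgroup M) ≤ (R : Subgroup M) := fun w hw => by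
      have : w ∈ (P : Subgroup M) ⊓ normalizer ((R : Subgroup M) : Set M) := ⟨hw, hle hw⟩
      exact ((SetLike.ext_iff.mp h1 w).mp this).2
    exact Sylow.ext (P.is_maximal' R.isPGroup' hle')
  -- `g` is a five-cycle on the other points, so `y` fixes all of them
  have hy1 : (y : G) = 1 := by
    refine hfaith _ fun R => ?_
    by_cases hRP : R = P
    · rw [hRP, hyP]
    set O := MulAction.orbit (zpowers (g : M)) R
    have hO : Nat.card O = 5 := by
      have hd : Nat.card O ∣ 5 := by
        rw [Nat.card_congr (MulAction.orbitEquivQuotientStabilizer _ R), ← Subgroup.index_eq_card]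
        refine (index_dvd_card _).trans (dvd_of_eq ?_)
        rw [Nat.card_zpowers, orderOf_coe, hg]
      rcases (Nat.dvd_prime Nat.prime_five).mp hd with e | e
      · exfalso
        haveI := (Nat.card_eq_one_iff_unique.mp e).1
        exact hRP (hfix R (congrArg Subtype.val (Subsingleton.elim
          (⟨_, MulAction.mem_orbit R (⟨(g : M), mem_zpowers _⟩ : zpowers (g : M))⟩ : O)
          ⟨R, MulAction.mem_orbit_self R⟩)))
      · exact e
    have hPO : P ∉ O := by
      rintro ⟨u, hu⟩
      refine hRP ?_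
      have hle : zpowers (g : M) ≤ (P : Subgroup M) := zpowers_le.mpr g.2
      have hP : (u : M) • P = P :=
        Sylow.smul_eq_iff_mem_normalizer.mpr (le_normalizer (hle u.2))
      exact smul_left_cancel (u : M) (hu.trans hP.symm)
    have hall : ∀ T : S, T ≠ P → T ∈ O := by
      intro T hT
      by_contra hTO
      have h7 : ({P, T} : Set S).ncard + O.ncard ≤ 6 := by
        rw [← Set.ncard_union_eq ?_ (Set.toFinite _) (Set.toFinite _)]
        · exact h6 ▸ Set.ncard_le_card _
        · rw [Set.disjoint_left]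
          rintro x hx hxo
          rcases hx with e | e
          · exact hPO (e ▸ hxo)
          · exact hTO ((Set.mem_singleton_iff.mp e) ▸ hxo)
      rw [Set.ncard_pair (Ne.symm hT), ← Nat.card_coe_set_eq, hO] at h7
      omega
    have hyR : φ (y : G) R ≠ P := fun e => hRP ((φ (y : G)).injective (e.trans hyP.symm))
    obtain ⟨u, hu⟩ := hall _ hyR
    set v : G := ((u : M) : G)
    have hu' : φ v R = φ (y : G) R := (hsmul (u : M) R).trans hu
    have hc : Commute (y : G) v := by
      obtain ⟨k, hk⟩ := mem_zpowers_iff.mp u.2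
      show Commute (y : G) ((u : M) : G)
      rw [← hk, SubgroupClass.coe_zpow]
      exact hcomm.zpow_right k
    have hpow : ∀ n : ℕ, φ (v ^ n) R = φ ((y : G) ^ n) R := by
      intro n
      induction n with
      | zero => simp
      | succ n ih =>
        rw [pow_succ' (y : G), map_mul, Equiv.Perm.mul_apply, ← ih, ← Equiv.Perm.mul_apply,
          ← map_mul, (hc.pow_right n).eq, map_mul, Equiv.Perm.mul_apply, ← hu',
          ← Equiv.Perm.mul_apply, ← map_mul, ← pow_succ]
    have h3 : φ (v ^ 3) R = R := by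
      rw [hpow 3, ← hy3, pow_orderOf_eq_one, map_one, Equiv.Perm.one_apply]
    have hv5 : v ^ 5 = 1 := by
      have h : orderOf (u : M) ∣ 5 := by
        have := orderOf_dvd_of_mem_zpowers u.2
        rwa [orderOf_coe g, hg] at this
      show ((u : M) : G) ^ 5 = 1
      rw [← SubmonoidClass.coe_pow, orderOf_dvd_iff_pow_eq_one.mp h]
      rfl
    rw [← hu']
    calc φ v R = φ (v ^ 6) R := by rw [pow_succ, hv5, one_mul]
      _ = φ (v ^ 3) (φ (v ^ 3) R) := by rw [← Equiv.Perm.mul_apply, ← map_mul, ← pow_add]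
      _ = R := by rw [h3, h3]
  rw [hy1, orderOf_one] at hy3
  omega

omit [Finite G] in
theorem sq_eq_inv {z : G} (hz : orderOf z = 3) : z ^ 2 = z⁻¹ := by
  have h := pow_orderOf_eq_one z
  rw [hz] at h
  rw [eq_inv_iff_mul_eq_one, ← pow_succ]
  exact h

/-- a linear character separating a central element of order three -/
theorem exists_linear {z : G} (hz : orderOf z = 3) (hc : ∀ g : G, g * z = z * g) {m : ℕ}
    (hG : Nat.card G = 3 ^ 2 * m) (hm : ¬ 3 ∣ m) : ∃ l : G →* ℂ, l z ≠ 1 := by
  haveI := Fact.mk Nat.prime_three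
  obtain ⟨P⟩ := (inferInstance : Nonempty (Sylow 3 G))
  have hPc : Nat.card (P : Subgroup G) = 3 ^ 2 := SmallOrders.card_sylow_subgroup hG hm P
  have hzP : z ∈ (P : Subgroup G) := by
    obtain ⟨Q, hQ⟩ := (IsPGroup.of_card (n := 1) (by rw [Nat.card_zpowers, hz, pow_one]) :
      IsPGroup 3 (zpowers z)).exists_le_sylow
    obtain ⟨g, hg⟩ := MulAction.exists_smul_eq G Q P
    rw [← hg]
    exact ⟨z, hQ (mem_zpowers z), by simp [MulAut.conj_apply, hc g]⟩
  letI : CommGroup (P : Subgroup G) :=
    { (inferInstance : Group (P : Subgroup G)) with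
      mul_comm := (IsPGroup.isMulCommutative_of_card_eq_prime_sq hPc).is_comm.comm }
  have hne : (⟨z ^ (P : Subgroup G).index, pow_mem hzP _⟩ : (P : Subgroup G)) ≠ 1 := by
    intro e
    have h1 : z ^ (P : Subgroup G).index = 1 := congrArg Subtype.val e
    rw [SmallOrders.index_sylow hG hm P, ← orderOf_dvd_iff_pow_eq_one, hz] at h1
    exact hm h1
  haveI : NeZero (Monoid.exponent (P : Subgroup G)) := ⟨Monoid.exponent_ne_zero_of_finite⟩
  haveI : NeZero ((Monoid.exponent (P : Subgroup G) : ℕ) : ℂ) := ⟨Nat.cast_ne_zero.2 (NeZero.ne _)⟩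
  obtain ⟨φ, hφ⟩ := CommGroup.exists_apply_ne_one_of_hasEnoughRootsOfUnity (P : Subgroup G) ℂ hne
  refine ⟨(Units.coeHom ℂ).comp (MonoidHom.transfer φ), fun e => hφ ?_⟩
  have key : ∀ (k : ℕ) (g₀ : G), g₀⁻¹ * z ^ k * g₀ ∈ (P : Subgroup G) → g₀⁻¹ * z ^ k * g₀ = z ^ k := by
    intro k g₀ _
    rw [mul_assoc, ← ((show Commute g₀ z from hc g₀).pow_right k).eq, inv_mul_cancel_left]
  have e' : MonoidHom.transfer φ z = 1 := Units.ext e
  rw [MonoidHom.transfer_eq_pow φ z key] at e'
  exact e'

/-- over a nontrivial character of an inverted subgroup of order three all degrees are even -/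
theorem even_degree {z g : G} (hz : orderOf z = 3) (hn : (zpowers z).Normal) (hg : g * z * g⁻¹ = z⁻¹)
    (χ : IrrCharacter G) (hχ : (χ : G → ℂ) z ≠ (χ : G → ℂ) 1) : 2 ∣ charDegree (χ : G → ℂ) := by
  classical
  haveI := Fintype.ofFinite G
  haveI := hn
  have h0 : classInner (fun n : zpowers z => (χ : G → ℂ) n) 1 = 0 := by
    by_contra h
    exact hχ (CharApp.trivOn_of_constituent_one (zpowers z) χ.2 h ⟨z, mem_zpowers z⟩)
  have hinv : (χ : G → ℂ) z⁻¹ = (χ : G → ℂ) z := by
    rw [← hg]; exact IsIrrCharacter.isClassFunction χ.2 z g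
  have hsum := card_mul_classInner (fun n : zpowers z => (χ : G → ℂ) n) 1
  rw [h0, mul_zero] at hsum
  simp only [Pi.one_apply, map_one, mul_one] at hsum
  rw [← Fintype.sum_equiv (finEquivZPowers (isOfFinOrder_of_finite z))
    (fun i : Fin (orderOf z) => (χ : G → ℂ) (z ^ (i : ℕ))) _ (fun i => rfl),
    Fin.sum_univ_eq_sum_range (fun i => (χ : G → ℂ) (z ^ i)), hz] at hsum
  simp only [Finset.sum_range_succ, Finset.sum_range_zero, zero_add, pow_zero, pow_one] at hsum
  have hz2 : z ^ 2 = z⁻¹ := sq_eq_inv hz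
  rw [hz2, hinv, CharApp.DegreeSets.apply_one χ.2] at hsum
  refine Char.nat_dvd_of_isIntegral_div two_ne_zero ?_
  have he : ((charDegree (χ : G → ℂ) : ℕ) : ℂ) / ((2 : ℕ) : ℂ) = -(χ : G → ℂ) z := by
    push_cast
    linear_combination (-1 / 2 : ℂ) * hsum
  rw [he]
  exact (IsCharacter.isIntegral (IsIrrCharacter.isCharacter χ.2) z).neg

/-- a non-solvable group of order 120 has no degree ten -/
theorem no_ten {H : Type*} [Group H] [Finite H] (hns : ¬ Group.IsSolvable H)
    (hH : Nat.card H = 120) (χ₀ : IrrCharacter H) : charDegree (χ₀ : H → ℂ) ≠ 10 := by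
  classical
  intro h10
  haveI := Fintype.ofFinite H
  haveI := Fintype.ofFinite (IrrCharacter H)
  -- the derived subgroup has index at most two
  set D := commutator H
  have hDns : ¬ Group.IsSolvable D := fun hs => hns ((Solvable.isSolvable_subgroup_quotient_iff D).mpr
    ⟨hs, Group.isSolvable_of_comm fun a b => mul_comm (G := Abelianization H) a b⟩)
  obtain ⟨t, ht, htd⟩ := exists_order_dvd hDns
    (lt_of_le_of_lt (card_le_card_group D) (by rw [hH]; norm_num))
  have htH : t ∣ 120 := hH ▸ htd.trans (card_subgroup_dvd_card D)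
  obtain rfl : t = 60 := by
    simp only [orderList, List.mem_cons, List.not_mem_nil, or_false] at ht
    rcases ht with rfl | rfl | rfl | rfl | rfl | rfl | rfl | rfl | rfl | rfl | rfl <;>
      first | rfl | norm_num at htH
  have hDmul := D.card_mul_index
  have hidx : D.index = 1 ∨ D.index = 2 := by
    obtain ⟨i, hi⟩ := htd
    rw [hi, hH, mul_assoc] at hDmul
    have : D.index ∣ 2 := ⟨i, by rw [mul_comm]; omega⟩
    exact (Nat.dvd_prime Nat.prime_two).mp this
  -- count the degrees
  let d : IrrCharacter H → ℕ := fun χ => charDegree (χ : H → ℂ)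
  have hd : ∀ χ, d χ ∣ 120 := fun χ => hH ▸ Codegree.deg_dvd_card χ
  have hsq : ∑ χ, d χ ^ 2 = 120 := by
    have h := sum_sq_degrees (G := H)
    rw [hH, Finset.sum_congr rfl fun χ _ => by rw [CharApp.DegreeSets.apply_one χ.2]] at h
    exact_mod_cast h
  set T := Finset.univ.erase χ₀
  have hT : ∑ χ ∈ T, d χ ^ 2 = 20 := by
    have h := Finset.add_sum_erase Finset.univ (fun χ => d χ ^ 2) (Finset.mem_univ χ₀)
    simp only [hsq] at h
    rw [show d χ₀ = 10 from h10] at h
    show ∑ χ ∈ Finset.univ.erase χ₀, d χ ^ 2 = 20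
    omega
  have hsmall : ∀ χ ∈ T, d χ = 1 ∨ d χ = 2 ∨ d χ = 3 ∨ d χ = 4 := by
    intro χ hχ
    have hle : d χ ^ 2 ≤ 20 := hT ▸ Finset.single_le_sum (f := fun χ => d χ ^ 2) (fun _ _ => Nat.zero_le _) hχ
    have h5 : d χ < 5 := by
      by_contra h
      have := Nat.pow_le_pow_left (not_lt.mp h) 2
      omega
    have h0 : d χ ≠ 0 := fun e => by
      have := hd χ; rw [e] at this; norm_num at this
    omega
  set n := fun v => (T.filter fun χ => d χ = v).card with hn
  have hsum : n 1 + 4 * n 2 + 9 * n 3 + 16 * n 4 = 20 ∧ n 1 + n 2 + n 3 + n 4 = T.card := by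
    constructor
    · rw [← hT]
      simp only [hn, Finset.card_filter]
      simp only [Finset.mul_sum, ← Finset.sum_add_distrib]
      refine Finset.sum_congr rfl fun χ hχ => ?_
      rcases hsmall χ hχ with e | e | e | e <;> simp [e]
    · rw [Finset.card_eq_sum_ones T]
      simp only [hn, Finset.card_filter, ← Finset.sum_add_distrib]
      refine Finset.sum_congr rfl fun χ hχ => ?_
      rcases hsmall χ hχ with e | e | e | e <;> simp [e]
  have hlin : n 1 = D.index := by
    rw [← Char.card_linear_irr (G := H), Nat.card_eq_fintype_card, Fintype.card_subtype]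
    refine congrArg Finset.card (Finset.ext fun χ => ?_)
    simp only [Finset.mem_filter, Finset.mem_univ, true_and, T, Finset.mem_erase, and_true]
    rw [CharApp.DegreeSets.apply_one χ.2, Nat.cast_eq_one]
    exact ⟨fun h => h.2, fun h => ⟨fun e => by subst e; rw [h10] at h; norm_num at h, h⟩⟩
  have hthree : 1 ≤ n 3 := by
    obtain ⟨-, ⟨-, e, ⟨χ, rfl⟩, h3⟩, -⟩ := degreePrimes_eq_of_three hns (a := 2) (b := 3) (c := 5) (by
      intro p hp hpd
      rw [hH, show 120 = 2 ^ 3 * (3 * 5) by norm_num] at hpd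
      rcases hp.dvd_mul.mp hpd with h | h
      · exact Or.inl ((Nat.prime_dvd_prime_iff_eq hp Nat.prime_two).mp (hp.dvd_of_dvd_pow h))
      · rcases hp.dvd_mul.mp h with h | h
        · exact Or.inr (Or.inl ((Nat.prime_dvd_prime_iff_eq hp Nat.prime_three).mp h))
        · exact Or.inr (Or.inr ((Nat.prime_dvd_prime_iff_eq hp Nat.prime_five).mp h)))
    have hne : χ ≠ χ₀ := fun e => by subst e; rw [h10] at h3; norm_num at h3
    have hχT : χ ∈ T := Finset.mem_erase.mpr ⟨hne, Finset.mem_univ _⟩
    refine Finset.card_pos.mpr ⟨χ, Finset.mem_filter.mpr ⟨hχT, ?_⟩⟩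
    rcases hsmall χ hχT with h | h | h | h <;> simp only [d] at h ⊢ <;> rw [h] at h3 <;>
      first | exact h | norm_num at h3
  obtain ⟨h2, hk⟩ : D.index = 2 ∧ Nat.card (ConjClasses H) = 5 := by
    rw [← card_irr_eq_card_conjClasses, Nat.card_eq_fintype_card, ← Finset.card_univ,
      ← Finset.card_erase_add_one (Finset.mem_univ χ₀)]
    show D.index = 2 ∧ T.card + 1 = 5
    have := hsum.1; have := hsum.2
    omega
  -- but five classes are too few
  haveI : D.Normal := inferInstance
  have hD60 : Nat.card D = 60 := by rw [h2, hH] at hDmul; omega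
  haveI := Fact.mk Nat.prime_two
  haveI := Fact.mk Nat.prime_three
  haveI := Fact.mk Nat.prime_five
  obtain ⟨a, ha⟩ := exists_prime_orderOf_dvd_card' (G := D) 2 (by rw [hD60]; norm_num)
  obtain ⟨b, hb⟩ := exists_prime_orderOf_dvd_card' (G := D) 3 (by rw [hD60]; norm_num)
  obtain ⟨c, hc⟩ := exists_prime_orderOf_dvd_card' (G := D) 5 (by rw [hD60]; norm_num)
  obtain ⟨P⟩ := (inferInstance : Nonempty (Sylow 2 H))
  have hP8 : Nat.card (P : Subgroup H) = 8 :=
    (SmallOrders.card_sylow_subgroup (show Nat.card H = 2 ^ 3 * 15 by rw [hH]; norm_num)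
      (by norm_num) P).trans (by norm_num)
  obtain ⟨y, hyP, hyD⟩ := SetLike.not_le_iff_exists.mp (fun hle : (P : Subgroup H) ≤ D => by
    have := card_dvd_of_le hle
    rw [hP8, hD60] at this
    norm_num at this)
  let w : Fin 5 → H := ![1, (a : H), (b : H), (c : H), y]
  have hDw : ∀ i : Fin 5, i ≠ 4 → w i ∈ D := by
    intro i hi
    fin_cases i <;> simp [w] at hi ⊢
  have hord : ∀ g k : H, IsConj g k → orderOf g = orderOf k := by
    intro g k h
    obtain ⟨u, rfl⟩ := isConj_iff.mp h
    rw [← MulAut.conj_apply]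
    exact (MulEquiv.orderOf_eq _ _).symm
  have hmemD : ∀ g k : H, IsConj g k → g ∈ D → k ∈ D := by
    intro g k h hg
    obtain ⟨u, rfl⟩ := isConj_iff.mp h
    exact (inferInstance : D.Normal).conj_mem g hg u
  have hinj : Function.Injective fun i => ConjClasses.mk (w i) := by
    intro i k e
    have e' := ConjClasses.mk_eq_mk_iff_isConj.mp e
    have ho := hord _ _ e'
    have hmi : ∀ u : H, u ∈ D → ¬ IsConj u y := fun u hu h => hyD (hmemD _ _ h hu)
    have hmi' : ∀ u : H, u ∈ D → ¬ IsConj y u := fun u hu h => hmi u hu h.symm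
    fin_cases i <;> fin_cases k <;> simp [w, orderOf_coe, ha, hb, hc] at ho e' ⊢
    all_goals first
      | exact absurd (isConj_iff.mpr e') (hmi _ (by first | exact one_mem _ | exact SetLike.coe_mem _))
      | exact absurd (isConj_iff.mpr e') (hmi' _ (by first | exact one_mem _ | exact SetLike.coe_mem _))
      | exact absurd e' (hmi _ (by first | exact one_mem _ | exact SetLike.coe_mem _))
      | exact absurd e' (hmi' _ (by first | exact one_mem _ | exact SetLike.coe_mem _))
      | exact hyD (e' ▸ one_mem _)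
  have hsurj : Function.Surjective fun i => ConjClasses.mk (w i) := by
    haveI := Fintype.ofFinite (ConjClasses H)
    refine (Function.Injective.bijective_of_nat_card_le hinj ?_).2
    rw [hk, Nat.card_fin]
  have hcl : {g : H | IsConj y g} = (D : Set H)ᶜ := by
    ext g
    refine ⟨fun h hg => hyD (hmemD _ _ (IsConj.symm h) hg), fun hg => ?_⟩
    obtain ⟨i, hi⟩ := hsurj (ConjClasses.mk g)
    have hi' := ConjClasses.mk_eq_mk_iff_isConj.mp hi
    by_cases h4 : i = 4
    · subst h4; exact hi'
    · exact absurd (hmemD _ _ hi' (hDw i h4)) hg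
  have hcent : Nat.card (centralizer ({y} : Set H)) = 2 := by
    have h := card_conjugates_mul_card_centralizer y
    rw [hcl, hH] at h
    have hsz : Nat.card ((D : Set H)ᶜ : Set H) = 60 := by
      rw [Nat.card_coe_set_eq, Set.ncard_compl, ← Nat.card_coe_set_eq, hH]
      show 120 - Nat.card D = 60
      omega
    rw [hsz] at h
    omega
  haveI : Nontrivial (P : Subgroup H) := by
    rw [← Finite.one_lt_card_iff_nontrivial, hP8]; norm_num
  haveI := P.isPGroup'.center_nontrivial
  obtain ⟨⟨⟨u, huP⟩, huZ⟩, hu1⟩ := exists_ne (1 : center (P : Subgroup H))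
  have hu : u ≠ 1 := fun e => hu1 (Subtype.ext (Subtype.ext e))
  have huy : u * y = y * u := (congrArg Subtype.val (mem_center_iff.mp huZ ⟨y, hyP⟩)).symm
  have huC : u ∈ centralizer ({y} : Set H) := mem_centralizer_singleton_iff.mpr huy
  have hy1 : y ≠ 1 := fun e => hyD (e ▸ one_mem D)
  have hCy : centralizer ({y} : Set H) = zpowers y := by
    refine (eq_of_le_of_card_ge (zpowers_le.mpr (mem_centralizer_singleton_iff.mpr rfl)) ?_).symm
    rw [hcent, Nat.card_zpowers]
    have := orderOf_eq_one_iff.not.mpr hy1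
    have := orderOf_pos y
    omega
  obtain ⟨i, hi⟩ := mem_zpowers_iff.mp (hCy ▸ huC)
  have hy2 : orderOf y = 2 := by rw [← Nat.card_zpowers, ← hCy, hcent]
  -- then `y` is central in `P`
  have huy' : u = y := by
    rcases Int.even_or_odd i with ⟨j, rfl⟩ | ⟨j, rfl⟩
    · refine absurd ?_ hu
      rw [← hi, ← two_mul, zpow_mul, zpow_ofNat, ← hy2, pow_orderOf_eq_one, one_zpow]
    · rw [← hi, zpow_add, zpow_mul, zpow_ofNat, ← hy2, pow_orderOf_eq_one, one_zpow, one_mul, zpow_one]
  have hPC : (P : Subgroup H) ≤ centralizer ({y} : Set H) := fun q hq =>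
    mem_centralizer_singleton_iff.mpr
      (huy' ▸ congrArg Subtype.val (mem_center_iff.mp huZ ⟨q, hq⟩))
  have := card_dvd_of_le hPC
  rw [hP8, hcent] at this
  norm_num at this

/-- For order 360 and a factor of order 60, an edge 2 – 5 forces an edge 2 – 3. -/
theorem false_of_section (hG : Nat.card G = 360) (hns : ¬ Group.IsSolvable G) (K : Subgroup G)
    [K.Normal] [Group.IsSolvable K] (M : Subgroup (G ⧸ K)) [M.Normal] [IsSimpleGroup M]
    (hM : ¬ IsMulCommutative M) (h60 : Nat.card M = 60) (hC : centralizer (M : Set (G ⧸ K)) = ⊥)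
    (h25 : (degreeGraph G).Adj 2 5) (h23 : ¬ (degreeGraph G).Adj 2 3) : False := by
  classical
  haveI := Fintype.ofFinite G
  haveI := Fact.mk Nat.prime_three
  haveI := Fact.mk Nat.prime_two
  -- a normal subgroup of order three
  obtain ⟨j, hj⟩ : 60 ∣ Nat.card (G ⧸ K) := h60 ▸ card_subgroup_dvd_card M
  have h3j := not_three_dvd hM h60 hC hj
  have hKj : Nat.card K * j = 6 := by
    have h := K.card_mul_index
    rw [Subgroup.index_eq_card, hj, hG] at h
    nlinarith
  have hK : Nat.card K = 3 ∨ Nat.card K = 6 := by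
    have hj6 : j ∣ 6 := Dvd.intro_left _ hKj
    have := Nat.le_of_dvd (by norm_num) hj6
    interval_cases j <;> omega
  obtain ⟨P⟩ := (inferInstance : Nonempty (Sylow 3 K))
  have hP3 : Nat.card (P : Subgroup K) = 3 := by
    rcases hK with e | e
    · exact (SmallOrders.card_sylow_subgroup (show Nat.card K = 3 ^ 1 * 1 by rw [e]; norm_num)
        (by norm_num) P).trans (by norm_num)
    · exact (SmallOrders.card_sylow_subgroup (show Nat.card K = 3 ^ 1 * 2 by rw [e]; norm_num)
        (by norm_num) P).trans (by norm_num)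
  have hPn : (P : Subgroup K).Normal := by
    have h := (P : Subgroup K).card_mul_index
    rw [hP3] at h
    rcases hK with e | e
    · have : (P : Subgroup K).index = 1 := by omega
      rw [index_eq_one] at this
      rw [this]; infer_instance
    · exact normal_of_index_eq_two (by omega)
  haveI : (P : Subgroup K).Characteristic := P.characteristic_of_normal hPn
  set Z := (P : Subgroup K).map K.subtype
  have hZn : Z.Normal := inferInstance
  have hZc : Nat.card Z = 3 := by rw [card_map_of_injective K.subtype_injective, hP3]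
  obtain ⟨⟨z, hzZ⟩, hz'⟩ := exists_prime_orderOf_dvd_card' (G := Z) 3 (by rw [hZc])
  have hz : orderOf z = 3 := by rw [← hz', orderOf_mk]
  have hZeq : zpowers z = Z :=
    eq_of_le_of_card_ge (zpowers_le.mpr hzZ) (by rw [Nat.card_zpowers, hz, hZc])
  have hzn : (zpowers z).Normal := hZeq ▸ hZn
  have hzs : Group.IsSolvable (zpowers z) := Group.isSolvable_of_comm fun a b => mul_comm' a b
  by_cases hcen : ∀ g : G, g * z = z * g
  · -- central: twist the degree ten onto the quotient of order 120
    obtain ⟨-, -, -, d, ⟨χ, rfl⟩, hd⟩ := h25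
    have hd10 : charDegree (χ : G → ℂ) = 10 := by
      haveI := Fintype.ofFinite (IrrCharacter G)
      have hdvd : charDegree (χ : G → ℂ) ∣ 360 := hG ▸ Codegree.deg_dvd_card χ
      have hsq : charDegree (χ : G → ℂ) ^ 2 ≤ 360 := by
        have h := sum_sq_degrees (G := G)
        rw [hG, Finset.sum_congr rfl fun φ _ => by rw [CharApp.DegreeSets.apply_one φ.2]] at h
        have h' : ∑ φ : IrrCharacter G, charDegree (φ : G → ℂ) ^ 2 = 360 := by exact_mod_cast h
        exact h' ▸ Finset.single_le_sum (f := fun φ : IrrCharacter G => charDegree (φ : G → ℂ) ^ 2)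
          (fun _ _ => Nat.zero_le _) (Finset.mem_univ χ)
      obtain ⟨i, hi⟩ := hd
      rw [hi] at hdvd hsq ⊢
      have hi1 : i < 2 := by
        by_contra hi2
        have := Nat.pow_le_pow_left (Nat.mul_le_mul_left (2 * 5) (not_lt.mp hi2)) 2
        omega
      interval_cases i
      · norm_num at hdvd
      · rfl
    obtain ⟨l, hl⟩ := exists_linear hz hcen (m := 40) (by rw [hG]; norm_num) (by norm_num)
    haveI := hzn
    set N := zpowers z
    have hcomm : ∀ a b : N, a * b = b * a := fun a b => mul_comm' a b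
    obtain ⟨θ, hθ⟩ := CharApp.exists_constituent
      (IsCharacter.restrict (IsIrrCharacter.isCharacter χ.2) N)
      (by simpa using IsIrrCharacter.apply_one_ne_zero χ.2)
    have hθ1 := apply_one_eq_one_of_comm hcomm θ
    obtain ⟨t, ht⟩ := exists_hom_of_degree_one (IsIrrCharacter.isCharacter θ.2) hθ1
    have hres := CharApp.restrict_invariant N χ.2 θ.2 hθ (fun x => by
      funext n
      rw [CliffordChar.conjFun_apply]
      refine congrArg _ (Subtype.ext ?_)
      obtain ⟨k, hk⟩ := mem_zpowers_iff.mp n.2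
      show x⁻¹ * (n : G) * x = n
      rw [← hk, mul_assoc, ← ((show Commute x z from hcen x).zpow_right k).eq,
        inv_mul_cancel_left])
    have h1 := congrFun hres 1
    have hzz := congrFun hres ⟨z, mem_zpowers z⟩
    simp only [Pi.smul_apply, OneMemClass.coe_one, hθ1, smul_eq_mul, mul_one] at h1 hzz
    have hz3 : ∀ (f : G →* ℂ), f z ^ 3 = 1 := fun f => by
      rw [← map_pow, ← hz, pow_orderOf_eq_one, map_one]
    have ht3 : t ⟨z, mem_zpowers z⟩ ^ 3 = 1 := by
      rw [← map_pow, show (⟨z, mem_zpowers z⟩ : N) ^ 3 = 1 from Subtype.ext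
        (by rw [SubmonoidClass.coe_pow, ← hz, pow_orderOf_eq_one]; rfl), map_one]
    have hprim : IsPrimitiveRoot (l z) 3 := by
      refine IsPrimitiveRoot.iff_orderOf.mpr (orderOf_eq_prime (hz3 l) hl)
    obtain ⟨i, -, hi⟩ := hprim.eq_pow_of_pow_eq_one (ξ := (t ⟨z, mem_zpowers z⟩)⁻¹)
      (by rw [inv_pow, ht3, inv_one])
    let χ' : IrrCharacter G := ⟨_, IsIrrCharacter.mul_linear χ.2 (l ^ i)⟩
    have hχ'1 : (χ' : G → ℂ) 1 = (χ : G → ℂ) 1 := by simp [χ']
    have hne : t ⟨z, mem_zpowers z⟩ ≠ 0 := fun e => by rw [e] at ht3; norm_num at ht3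
    have hker : N ≤ Codegree.kerSub χ' := by
      refine zpowers_le.mpr ?_
      show (χ' : G → ℂ) z = (χ' : G → ℂ) 1
      rw [hχ'1]
      show (χ : G → ℂ) z * (l ^ i) z = _
      rw [hzz, h1, ← congrFun ht ⟨z, mem_zpowers z⟩, MonoidHom.pow_apply, hi, mul_assoc,
        mul_inv_cancel₀ hne, mul_one]
    obtain ⟨ψ, hψ⟩ := Codegree.exists_quot χ' N hker
    refine no_ten (fun hs => hns ((Solvable.isSolvable_subgroup_quotient_iff N).mpr ⟨hzs, hs⟩)) ?_ ψ ?_
    · have h := N.card_mul_index
      rw [Nat.card_zpowers, hz, hG] at h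
      rw [← Subgroup.index_eq_card]
      omega
    · rw [← hd10]
      unfold charDegree
      have h := hψ 1
      rw [QuotientGroup.mk_one] at h
      rw [h, hχ'1]
  · -- inverted: a character of the centraliser induces to degree six
    push Not at hcen
    obtain ⟨g, hg⟩ := hcen
    have hz2 : z ^ 2 = z⁻¹ := sq_eq_inv hz
    have hmem : ∀ u ∈ zpowers z, u = 1 ∨ u = z ∨ u = z⁻¹ := by
      intro u hu
      obtain ⟨k, hk, rfl⟩ := Finset.mem_image.mp
        ((IsOfFinOrder.mem_zpowers_iff_mem_range_orderOf (isOfFinOrder_of_finite z)).mp hu)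
      rw [Finset.mem_range] at hk
      rw [hz] at hk
      interval_cases k <;> simp [hz2]
    have hgz : g * z * g⁻¹ = z⁻¹ := by
      rcases hmem _ (hzn.conj_mem z (mem_zpowers z) g) with e | e | e
      · rw [mul_inv_eq_one] at e
        have : z = 1 := mul_left_cancel (e.trans (mul_one g).symm)
        rw [this, orderOf_one] at hz; omega
      · exact absurd (mul_inv_eq_iff_eq_mul.mp e) hg
      · exact e
    set C := centralizer ({z} : Set G)
    have hcl : {x : G | IsConj z x} = {z, z⁻¹} := by
      ext x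
      simp only [Set.mem_insert_iff, Set.mem_singleton_iff]
      constructor
      · intro h
        obtain ⟨u, rfl⟩ := isConj_iff.mp h
        rcases hmem _ (hzn.conj_mem z (mem_zpowers z) u) with e | e | e
        · rw [mul_inv_eq_one] at e
          have : z = 1 := mul_left_cancel (e.trans (mul_one u).symm)
          rw [this, orderOf_one] at hz; omega
        · exact Or.inl e
        · exact Or.inr e
      · rintro (rfl | rfl)
        · exact IsConj.refl _
        · exact isConj_iff.mpr ⟨g, hgz⟩
    have hzne : z ≠ z⁻¹ := fun e => by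
      have : z ^ 2 = 1 := by rw [pow_two]; nth_rewrite 2 [e]; exact mul_inv_cancel z
      have := orderOf_dvd_of_pow_eq_one this
      rw [hz] at this; norm_num at this
    have hCc : Nat.card C = 180 := by
      have h := card_conjugates_mul_card_centralizer z
      rw [hcl, Nat.card_coe_set_eq, Set.ncard_pair hzne, hG] at h
      change 2 * Nat.card C = 360 at h
      omega
    have hCi : C.index = 2 := by
      have h := C.card_mul_index
      rw [hCc, hG] at h
      omega
    haveI : C.Normal := normal_of_index_eq_two hCi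
    have hCns : ¬ Group.IsSolvable C := fun hs => hns ((Solvable.isSolvable_subgroup_quotient_iff C).mpr
      ⟨hs, by
        haveI := isCyclic_of_prime_card (α := G ⧸ C) (p := 2) (by rw [← Subgroup.index_eq_card, hCi])
        exact isSolvable_of_isMulCommutative IsCyclic.isMulCommutative⟩)
    obtain ⟨-, ⟨-, d, ⟨ψ₀, rfl⟩, h3d⟩, -⟩ :=
      degreePrimes_eq_of_three hCns (a := 2) (b := 3) (c := 5) (by
        intro p hp hpd
        rw [hCc, show 180 = 2 ^ 2 * (3 ^ 2 * 5) by norm_num] at hpd
        rcases hp.dvd_mul.mp hpd with h | h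
        · exact Or.inl ((Nat.prime_dvd_prime_iff_eq hp Nat.prime_two).mp (hp.dvd_of_dvd_pow h))
        · rcases hp.dvd_mul.mp h with h | h
          · exact Or.inr (Or.inl ((Nat.prime_dvd_prime_iff_eq hp Nat.prime_three).mp (hp.dvd_of_dvd_pow h)))
          · exact Or.inr (Or.inr ((Nat.prime_dvd_prime_iff_eq hp Nat.prime_five).mp h)))
    haveI := Fintype.ofFinite C
    haveI := Fintype.ofFinite (IrrCharacter C)
    let zC : C := ⟨z, mem_centralizer_singleton_iff.mpr rfl⟩
    obtain ⟨ψ, hψd, hψz⟩ : ∃ ψ : IrrCharacter C,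
        charDegree (ψ : C → ℂ) = charDegree (ψ₀ : C → ℂ) ∧ (ψ : C → ℂ) zC ≠ (ψ : C → ℂ) 1 := by
      by_cases h : (ψ₀ : C → ℂ) zC = (ψ₀ : C → ℂ) 1
      · obtain ⟨l, hl⟩ := exists_linear (z := zC) (by rw [orderOf_mk, hz])
          (fun c => Subtype.ext (mem_centralizer_singleton_iff.mp c.2))
          (m := 20) (by rw [hCc]; norm_num) (by norm_num)
        refine ⟨⟨_, IsIrrCharacter.mul_linear ψ₀.2 l⟩, by simp [charDegree], ?_⟩
        show (ψ₀ : C → ℂ) zC * l zC ≠ (ψ₀ : C → ℂ) 1 * l 1
        rw [h, map_one, mul_one]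
        exact fun e => hl (mul_left_cancel₀ (IsIrrCharacter.apply_one_ne_zero ψ₀.2)
          (e.trans (mul_one _).symm))
      · exact ⟨ψ₀, rfl, h⟩
    obtain ⟨χ, hχ, hover⟩ := CharApp.exists_over C ψ.2
    have hdd := CharApp.DegreeSets.degree_dvd_of_over C hχ ψ.2 hover
    have hχz : χ z ≠ χ 1 := by
      intro e
      obtain ⟨m, hm, hm'⟩ := IsCharacter.decompose
        (IsCharacter.restrict (IsIrrCharacter.isCharacter hχ) C)
      refine hψz ?_
      have hle : ∀ φ : IrrCharacter C, ((φ : C → ℂ) zC).re ≤ ((φ : C → ℂ) 1).re := fun φ =>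
        (Complex.re_le_norm _).trans (IsCharacter.norm_le (IsIrrCharacter.isCharacter φ.2) zC)
      have hsum : ∑ φ : IrrCharacter C, (m φ : ℝ) * (((φ : C → ℂ) 1).re - ((φ : C → ℂ) zC).re) = 0 := by
        have ez := congrFun hm zC
        have e1 := congrFun hm 1
        simp only [Finset.sum_apply, Pi.smul_apply, smul_eq_mul] at ez e1
        have := congrArg Complex.re (e1.symm.trans ((show χ ((1 : C) : G) = χ (zC : G) by
          simp [zC, e]).trans ez))
        simp only [Complex.re_sum, Complex.mul_re, Complex.natCast_re, Complex.natCast_im, zero_mul,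
          sub_zero] at this
        simp only [mul_sub, Finset.sum_sub_distrib, this, sub_self]
      have h0 := (Finset.sum_eq_zero_iff_of_nonneg fun φ _ =>
        mul_nonneg (Nat.cast_nonneg _) (sub_nonneg.mpr (hle φ))).mp hsum ψ (Finset.mem_univ _)
      have hmψ : (m ψ : ℝ) ≠ 0 := by
        intro e0
        apply hover
        rw [hm' ψ]
        exact_mod_cast congrArg (fun r : ℝ => (r : ℂ)) e0
      have hre := (mul_eq_zero.mp h0).resolve_left hmψ
      have hn := IsCharacter.norm_le (IsIrrCharacter.isCharacter ψ.2) zC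
      have h1 : (ψ : C → ℂ) 1 = (((charDegree (ψ : C → ℂ) : ℕ) : ℝ) : ℂ) := by
        rw [CharApp.DegreeSets.apply_one ψ.2, Complex.ofReal_natCast]
      rw [h1, Complex.ofReal_re] at hn hre
      rw [h1]
      have hsq : ‖(ψ : C → ℂ) zC‖ ^ 2 = ((ψ : C → ℂ) zC).re * ((ψ : C → ℂ) zC).re +
          ((ψ : C → ℂ) zC).im * ((ψ : C → ℂ) zC).im := by
        rw [Complex.sq_norm, Complex.normSq_apply]
      have hpos : (0 : ℝ) ≤ ((charDegree (ψ : C → ℂ) : ℕ) : ℝ) := Nat.cast_nonneg _
      apply Complex.ext
      · rw [Complex.ofReal_re]; linarith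
      · rw [Complex.ofReal_im]
        nlinarith [norm_nonneg ((ψ : C → ℂ) zC)]
    have h2 : 2 ∣ charDegree χ := even_degree hz hzn hgz ⟨χ, hχ⟩ hχz
    refine h23 ⟨by norm_num, Nat.prime_two, Nat.prime_three, _, ⟨⟨χ, hχ⟩, rfl⟩, ?_⟩
    exact Nat.Coprime.mul_dvd_of_dvd_of_dvd (by norm_num) h2 ((hψd ▸ h3d).trans hdd)

end Cfsg.Agent.SmallDegreeGraph
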