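-- Simple groups of order less than 6000 are determined by order and degree graph.
--
-- * `mulEquiv_of_same_graph`
import Cfsg.Agent.Lib.SmallDegreeGraph.Action
import Cfsg.Agent.Lib.SmallDegreeGraph.Vertices
import Cfsg.Agent.Lib.SmallDegreeGraph.Order360

set_option autoImplicit false
set_option linter.style.haveILetI false

namespace Cfsg.Agent.SmallDegreeGraph

open Subgroup Cfsg

variable {G : Type*} [Group G] [Finite G]

/-- the prime divisors of the orders in `orderList` -/
def primeList : List ℕ := [2, 3, 5, 7, 11, 13, 17, 19]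

theorem mem_primeList {n p : ℕ} (hn : n ∈ orderList) (hp : p.Prime) (hd : p ∣ n) :
    p ∈ primeList := by
  have hle : n ∣ 2 ^ 4 * (3 ^ 3 * (5 * (7 * (11 * (13 * (17 * 19)))))) := by
    simp only [orderList, List.mem_cons, List.not_mem_nil, or_false] at hn
    rcases hn with rfl | rfl | rfl | rfl | rfl | rfl | rfl | rfl | rfl | rfl | rfl <;> norm_num
  have h := hd.trans hle
  have eq : ∀ q : ℕ, q.Prime → p ∣ q → p = q := fun q hq hpq =>
    (Nat.prime_dvd_prime_iff_eq hp hq).mp hpq
  simp only [primeList, List.mem_cons, List.not_mem_nil, or_false]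
  rcases hp.dvd_mul.mp h with h | h
  · exact Or.inl (eq 2 Nat.prime_two (hp.dvd_of_dvd_pow h))
  rcases hp.dvd_mul.mp h with h | h
  · exact Or.inr (Or.inl (eq 3 Nat.prime_three (hp.dvd_of_dvd_pow h)))
  rcases hp.dvd_mul.mp h with h | h
  · exact Or.inr (Or.inr (Or.inl (eq 5 Nat.prime_five h)))
  rcases hp.dvd_mul.mp h with h | h
  · exact Or.inr (Or.inr (Or.inr (Or.inl (eq 7 (by norm_num) h))))
  rcases hp.dvd_mul.mp h with h | h
  · exact Or.inr (Or.inr (Or.inr (Or.inr (Or.inl (eq 11 (by norm_num) h)))))
  rcases hp.dvd_mul.mp h with h | h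
  · exact Or.inr (Or.inr (Or.inr (Or.inr (Or.inr (Or.inl (eq 13 (by norm_num) h))))))
  rcases hp.dvd_mul.mp h with h | h
  · exact Or.inr (Or.inr (Or.inr (Or.inr (Or.inr (Or.inr (Or.inl (eq 17 (by norm_num) h)))))))
  · exact Or.inr (Or.inr (Or.inr (Or.inr (Or.inr (Or.inr (Or.inr (eq 19 (by norm_num) h)))))))

theorem lt_thirteen {n p i : ℕ} (hp : p.Prime) (hn : 0 < n) (hlt : n < 6000) (h : p ^ (i + 1) ∣ n) :
    i < 13 := by
  have h1 : 2 ^ (i + 1) ≤ p ^ (i + 1) := Nat.pow_le_pow_left hp.two_le _
  have h2 := Nat.le_of_dvd hn h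
  by_contra h3
  have h4 : 2 ^ 14 ≤ 2 ^ (i + 1) := Nat.pow_le_pow_right (by norm_num) (by omega)
  omega

/-- no prime power dividing `m` is `1` modulo `r` -/
def Good (m r : ℕ) : Prop :=
  ∀ p ∈ primeList, ∀ i < 13, p ^ (i + 1) ∣ m → ¬ r ∣ p ^ (i + 1) - 1

instance (m r : ℕ) : Decidable (Good m r) := by unfold Good; infer_instance

theorem card_sylow_prime {r k : ℕ} [Fact r.Prime] (hG : Nat.card G = r * k) (hk : ¬ r ∣ k)
    (R : Sylow r G) : Nat.card (R : Subgroup G) = r :=
  (SmallOrders.card_sylow_subgroup (show Nat.card G = r ^ 1 * k by rw [hG, pow_one]) hk R).trans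
    (pow_one r)

/-- the solvable case -/
theorem solvable_case [Group.IsSolvable G] (hn : Nat.card G ∈ orderList) {r k : ℕ} [Fact r.Prime]
    (hG : Nat.card G = r * k) (hk : ¬ r ∣ k) (hv : r ∈ degreePrimes G) (V : List ℕ)
    (hV : ∀ p ∈ V, p ∈ degreePrimes G)
    (hp : ∀ p ∈ primeList, ∀ i < 13, p ^ (i + 1) ∣ r * k → r ∣ p ^ (i + 1) - 1 →
      ¬ p ^ (i + 2) ∣ r * k ∧ p ∈ V) : False := by
  have hlt : Nat.card G < 6000 := by
    simp only [orderList, List.mem_cons, List.not_mem_nil, or_false] at hn
    omega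
  obtain ⟨R⟩ := (inferInstance : Nonempty (Sylow r G))
  refine solvable_absurd R (card_sylow_prime hG hk R) hv fun p i hp' hd hr => ?_
  obtain ⟨h1, h2⟩ := hp p (mem_primeList hn hp' ((dvd_pow_self p i.succ_ne_zero).trans hd)) i
    (lt_thirteen hp' Nat.card_pos hlt hd) (hG ▸ hd) hr
  exact ⟨hG ▸ h1, hV p h2⟩

/-- a prime acting trivially on the socle gives a normal Sylow subgroup -/
theorem socle_absurd (hn : Nat.card G ∈ orderList) {K : Subgroup G} [K.Normal] [Group.IsSolvable K]
    {M : Subgroup (G ⧸ K)} [M.Normal] [IsSimpleGroup M] (hM : ¬ IsMulCommutative M)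
    (hC : centralizer (M : Set (G ⧸ K)) = ⊥) {r k : ℕ} [Fact r.Prime] (hG : Nat.card G = r * k)
    (hk : ¬ r ∣ k) (hv : r ∈ degreePrimes G) {s a l : ℕ} [Fact s.Prime]
    (ht : Nat.card M = s ^ a * l) (hl : ¬ s ∣ l) (ha : 0 < a) (hbig : 24 < 2 * (s ^ a * l))
    (hrl : ¬ r ∣ l) (hrs : s ≠ r) (hi : ∀ i, i ≤ a → r ∣ s ^ i - 1 → i = 0)
    (hf : ∀ m ∈ l.divisors, m % s = 1 → 5 ≤ m → ∀ f ∈ l.divisors, f ≤ m → f % r = m % r →
      f % s = 1 → f = m)
    (hgood : Good (r * k / (s ^ a * l)) r) : False := by
  classical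
  have hlt : Nat.card G < 6000 := by
    simp only [orderList, List.mem_cons, List.not_mem_nil, or_false] at hn
    omega
  have hR : ∀ R : Sylow r G, (R : Subgroup G) ≤ K := by
    intro R y hy
    obtain ⟨e, he⟩ : ∃ e, orderOf y = e := ⟨_, rfl⟩
    have hd : orderOf y ∣ r := by
      rw [← card_sylow_prime hG hk R, ← Nat.card_zpowers]
      exact card_dvd_of_le (zpowers_le.mpr hy)
    rw [← QuotientGroup.eq_one_iff]
    by_contra hne
    have hyo : orderOf (y : G ⧸ K) = r := by
      have hd' : orderOf (y : G ⧸ K) ∣ r := (orderOf_map_dvd (QuotientGroup.mk' K) y).trans hd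
      rcases (Nat.dvd_prime Fact.out).mp hd' with h | h
      · exact absurd (orderOf_eq_one_iff.mp h) hne
      · exact h
    have hle := le_centralizer_of_simple hM ht hl ha hbig hrl hrs hi hf hyo
    have hy' : (y : G ⧸ K) ∈ centralizer (M : Set (G ⧸ K)) :=
      mem_centralizer_iff.mpr fun m hm => mem_centralizer_singleton_iff.mp (hle hm)
    rw [hC, mem_bot] at hy'
    exact hne hy'
  obtain ⟨R⟩ := (inferInstance : Nonempty (Sylow r G))
  let R' : Sylow r K := R.subtype (hR R)
  have hR'c : Nat.card (R' : Subgroup K) = r := by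
    rw [Sylow.coe_subtype, Nat.card_congr (subgroupOfEquivOfLe (hR R)).toEquiv,
      card_sylow_prime hG hk R]
  have hKd : Nat.card K ∣ r * k / (s ^ a * l) := by
    have h1 : Nat.card K * (s ^ a * l) ∣ r * k := by
      rw [← hG, ← ht]
      have h := K.card_mul_index
      rw [Subgroup.index_eq_card] at h
      rw [← h]
      exact Nat.mul_dvd_mul_left _ (card_subgroup_dvd_card M)
    exact Nat.dvd_div_of_mul_dvd (by rwa [mul_comm] at h1)
  have hKG : Nat.card K ∣ Nat.card G := card_subgroup_dvd_card K
  have hnorm : (R' : Subgroup K).Normal := by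
    refine normal_of_solvable R' hR'c fun p i hp hd => ?_
    exact hgood p (mem_primeList hn hp ((dvd_pow_self p i.succ_ne_zero).trans (hd.trans hKG))) i
      (lt_thirteen hp Nat.card_pos hlt (hd.trans hKG)) (hd.trans hKd)
  haveI : (R' : Subgroup K).Characteristic := R'.characteristic_of_normal hnorm
  have hmap : (R' : Subgroup K).map K.subtype = (R : Subgroup G) := by
    rw [Sylow.coe_subtype, subgroupOf_map_subtype, inf_eq_left.mpr (hR R)]
  have hRn : (R : Subgroup G).Normal := hmap ▸ inferInstance
  exact not_mem_of_prime_order R hRn (card_sylow_prime hG hk R) hv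

/-- a prime dividing the order of a non-abelian simple group with three prime divisors -/
theorem vertex_of_three {S : Type*} [Group S] [Finite S] [IsSimpleGroup S]
    (hS : ¬ IsMulCommutative S) (hn : Nat.card S ∈ orderList) {a b c : ℕ}
    (h : ∀ p ∈ primeList, p ∣ Nat.card S → p = a ∨ p = b ∨ p = c) :
    a ∈ degreePrimes S ∧ b ∈ degreePrimes S ∧ c ∈ degreePrimes S := by
  refine degreePrimes_eq_of_three (fun hs => hS ?_) fun p hp hd => h p (mem_primeList hn hp hd) hd
  exact ⟨⟨IsSimpleGroup.comm_iff_isSolvable.mpr hs⟩⟩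

/-- `PSL(2,7)` has the edge 2 – 3 -/
theorem adj_168 {M : Type*} [Group M] [Finite M] [IsSimpleGroup M] (hM : ¬ IsMulCommutative M)
    (h : Nat.card M = 168) : (degreeGraph M).Adj 2 3 := by
  haveI : Fact (Nat.Prime 7) := ⟨by norm_num⟩
  have hc : Fintype.card (ZMod 7) = 7 := ZMod.card 7
  refine ((psl_odd_facts hM (by omega) (ZMod 7) 7 (by norm_num) (by rw [hc]; norm_num)
    (by rw [hc, h]; norm_num)).2 2 3).mpr ?_
  rw [hc]
  norm_num

theorem adj_360 {S : Type*} [Group S] [Finite S] [IsSimpleGroup S] (hS : ¬ IsMulCommutative S)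
    (h : Nat.card S = 360) : (degreeGraph S).Adj 2 5 ∧ ¬ (degreeGraph S).Adj 2 3 := by
  haveI := Fact.mk Nat.prime_three
  haveI : Fintype (GaloisField 3 2) := Fintype.ofFinite _
  have hc : Fintype.card (GaloisField 3 2) = 9 := by
    rw [← Nat.card_eq_fintype_card, GaloisField.card 3 2 (by norm_num)]; norm_num
  have hf := (psl_odd_facts hS (by omega) (GaloisField 3 2) 3 (by norm_num) (by rw [hc]; norm_num)
    (by rw [hc, h]; norm_num)).2
  rw [hf, hf, hc]
  norm_num

theorem not_adj_504 {S : Type*} [Group S] [Finite S] [IsSimpleGroup S] (hS : ¬ IsMulCommutative S)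
    (h : Nat.card S = 504) : ¬ (degreeGraph S).Adj 2 3 := by
  haveI : Fintype (GaloisField 2 3) := Fintype.ofFinite _
  have hc : Fintype.card (GaloisField 2 3) = 8 := by
    rw [← Nat.card_eq_fintype_card, GaloisField.card 2 3 (by norm_num)]; norm_num
  rw [(psl_even_facts hS (by omega) (GaloisField 2 3) (by rw [hc]; norm_num)
    (by rw [hc]; exact ⟨4, rfl⟩) (by rw [hc, h]; norm_num)).2, hc]
  norm_num

theorem vertex_psl_prime {S : Type*} [Group S] [Finite S] [IsSimpleGroup S]
    (hS : ¬ IsMulCommutative S) (p : ℕ) [Fact p.Prime] (hlt : Nat.card S < 6000) (h5 : 5 < p)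
    (hcard : p * (p ^ 2 - 1) = 2 * Nat.card S) : p ∈ degreePrimes S := by
  rw [(psl_odd_facts hS hlt (ZMod p) p (by omega) (by rw [ZMod.card]; exact h5)
    (by rw [ZMod.card]; exact hcard)).1, ZMod.card]
  exact ⟨Fact.out, dvd_mul_right _ _⟩

theorem vertex_4080 {S : Type*} [Group S] [Finite S] [IsSimpleGroup S] (hS : ¬ IsMulCommutative S)
    (h : Nat.card S = 4080) : 17 ∈ degreePrimes S := by
  haveI : Fintype (GaloisField 2 4) := Fintype.ofFinite _
  have hc : Fintype.card (GaloisField 2 4) = 16 := by
    rw [← Nat.card_eq_fintype_card, GaloisField.card 2 4 (by norm_num)]; norm_num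
  rw [(psl_even_facts hS (by omega) (GaloisField 2 4) (by rw [hc]; norm_num)
    (by rw [hc]; exact ⟨8, rfl⟩) (by rw [hc, h]; norm_num)).1, hc]
  exact ⟨by norm_num, by norm_num⟩

theorem mulEquiv_of_same_graph {S : Type*} [Group S] [Finite S] [IsSimpleGroup S]
    (hS : ¬ IsMulCommutative S) (hlt : Nat.card S < 6000) (hcard : Nat.card G = Nat.card S)
    (hV : degreePrimes G = degreePrimes S) (hE : degreeGraph G = degreeGraph S) :
    Nonempty (G ≃* S) := by
  have hn : Nat.card G ∈ orderList := hcard ▸ mem_orderList hS hlt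
  have hnS : Nat.card S ∈ orderList := mem_orderList hS hlt
  have : Fact (Nat.Prime 7) := ⟨by norm_num⟩
  have : Fact (Nat.Prime 11) := ⟨by norm_num⟩
  have : Fact (Nat.Prime 13) := ⟨by norm_num⟩
  have : Fact (Nat.Prime 17) := ⟨by norm_num⟩
  have : Fact (Nat.Prime 19) := ⟨by norm_num⟩
  have := Fact.mk Nat.prime_five
  have := Fact.mk Nat.prime_three
  have := Fact.mk Nat.prime_two
  -- vertices
  have three : ∀ a b c : ℕ, (∀ p ∈ primeList, p ∣ Nat.card S → p = a ∨ p = b ∨ p = c) →
      a ∈ degreePrimes G ∧ b ∈ degreePrimes G ∧ c ∈ degreePrimes G := fun a b c h =>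
    hV ▸ vertex_of_three hS hnS h
  by_cases hsol : Group.IsSolvable G
  · exfalso
    simp only [orderList, List.mem_cons, List.not_mem_nil, or_false] at hnS
    rcases hnS with h | h | h | h | h | h | h | h | h | h | h <;> have hG := hcard.trans h
    · obtain ⟨-, -, h5⟩ := three 2 3 5 (by rw [h]; decide)
      exact solvable_case hn (r := 5) (k := 12) hG (by norm_num) h5 [] (by simp) (by decide +kernel)
    · obtain ⟨h2, -, h7⟩ := three 2 3 7 (by rw [h]; decide)
      exact solvable_case hn (r := 7) (k := 24) hG (by norm_num) h7 [2] (by simp [h2])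
        (by decide +kernel)
    · obtain ⟨-, -, h5⟩ := three 2 3 5 (by rw [h]; decide)
      exact solvable_case hn (r := 5) (k := 72) hG (by norm_num) h5 [] (by simp) (by decide +kernel)
    · obtain ⟨h2, -, h7⟩ := three 2 3 7 (by rw [h]; decide)
      exact solvable_case hn (r := 7) (k := 72) hG (by norm_num) h7 [2] (by simp [h2])
        (by decide +kernel)
    · exact solvable_case hn (r := 11) (k := 60) hG (by norm_num)
        (hV ▸ vertex_psl_prime hS 11 hlt (by norm_num) (by rw [h]; norm_num)) [] (by simp)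
        (by decide +kernel)
    · exact solvable_case hn (r := 13) (k := 84) hG (by norm_num)
        (hV ▸ vertex_psl_prime hS 13 hlt (by norm_num) (by rw [h]; norm_num)) [] (by simp)
        (by decide +kernel)
    · obtain ⟨-, -, h17⟩ := three 2 3 17 (by rw [h]; decide)
      exact solvable_case hn (r := 17) (k := 144) hG (by norm_num) h17 [] (by simp) (by decide +kernel)
    · exact solvable_case hn (r := 5) (k := 504) hG (by norm_num)
        (hV ▸ vertex_2520 h (Or.inl rfl)) [] (by simp) (by decide +kernel)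
    · exact solvable_case hn (r := 19) (k := 180) hG (by norm_num)
        (hV ▸ vertex_psl_prime hS 19 hlt (by norm_num) (by rw [h]; norm_num)) [] (by simp)
        (by decide +kernel)
    · exact solvable_case hn (r := 17) (k := 240) hG (by norm_num)
        (hV ▸ vertex_4080 hS h) [] (by simp) (by decide +kernel)
    · obtain ⟨-, h3, h13⟩ := three 2 3 13 (by rw [h]; decide)
      exact solvable_case hn (r := 13) (k := 432) hG (by norm_num) h13 [3] (by simp [h3])
        (by decide +kernel)
  · -- the socle over the solvable radical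
    have hltG : Nat.card G < 6000 := hcard ▸ hlt
    have h36 : ¬ 3600 ∣ Nat.card G := by
      simp only [orderList, List.mem_cons, List.not_mem_nil, or_false] at hn
      omega
    obtain ⟨K, hK, M, hMn, hKs, hMs, hM, hC⟩ := exists_socle hltG h36 hsol
    haveI := hK; haveI := hMn; haveI := hKs; haveI := hMs
    have hQ : Nat.card (G ⧸ K) ≤ Nat.card G :=
      Nat.card_le_card_of_surjective _ (QuotientGroup.mk'_surjective K)
    have hMQ : Nat.card M ≤ Nat.card (G ⧸ K) := card_le_card_group M
    have hdvd : Nat.card M ∣ Nat.card S :=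
      hcard ▸ (card_subgroup_dvd_card M).trans (card_quotient_dvd_card K)
    have hMmem : Nat.card M ∈ orderList := mem_orderList hM (by omega)
    by_cases he : Nat.card M = Nat.card S
    · -- the whole group is the socle
      obtain ⟨e⟩ := mulEquiv_of_card_eq hS hlt he
      have htop : M = ⊤ := M.eq_top_of_card_eq (by omega)
      have hbij : Function.Bijective (QuotientGroup.mk' K) :=
        (Nat.bijective_iff_surjective_and_card _).mpr ⟨QuotientGroup.mk'_surjective K, by omega⟩
      exact ⟨(MulEquiv.ofBijective _ hbij).trans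
        ((Subgroup.topEquiv.symm.trans (MulEquiv.subgroupCongr htop.symm)).trans e)⟩
    · exfalso
      simp only [orderList, List.mem_cons, List.not_mem_nil, or_false] at hnS hMmem
      rcases hnS with h | h | h | h | h | h | h | h | h | h | h <;> have hG := hcard.trans h <;>
        rcases hMmem with ht | ht | ht | ht | ht | ht | ht | ht | ht | ht | ht <;>
        (try omega) <;> (try (rw [ht, h] at hdvd; norm_num at hdvd; done))
      · obtain ⟨h25, h23⟩ := adj_360 hS h
        rw [← hE] at h25 h23
        exact false_of_section hG hsol K M hM ht hC h25 h23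
      · exact not_adj_504 hS h (hE ▸ adj_of_section K M (adj_168 hM ht))
      · exact socle_absurd hn hM hC (r := 11) (k := 60) hG (by norm_num)
          (hV ▸ vertex_psl_prime hS 11 hlt (by norm_num) (by rw [h]; norm_num))
          (s := 5) (a := 1) (l := 12) (by rw [ht]; norm_num) (by norm_num) (by norm_num) (by norm_num)
          (by norm_num) (by norm_num) (by decide +kernel) (by decide +kernel) (by decide +kernel)
      · exact socle_absurd hn hM hC (r := 7) (k := 360) hG (by norm_num)
          (hV ▸ vertex_2520 h (Or.inr rfl))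
          (s := 5) (a := 1) (l := 12) (by rw [ht]; norm_num) (by norm_num) (by norm_num) (by norm_num)
          (by norm_num) (by norm_num) (by decide +kernel) (by decide +kernel) (by decide +kernel)
      · exact socle_absurd hn hM hC (r := 5) (k := 504) hG (by norm_num)
          (hV ▸ vertex_2520 h (Or.inl rfl))
          (s := 7) (a := 1) (l := 24) (by rw [ht]; norm_num) (by norm_num) (by norm_num) (by norm_num)
          (by norm_num) (by norm_num) (by decide +kernel) (by decide +kernel) (by decide +kernel)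
      · exact socle_absurd hn hM hC (r := 7) (k := 360) hG (by norm_num)
          (hV ▸ vertex_2520 h (Or.inr rfl))
          (s := 3) (a := 2) (l := 40) (by rw [ht]; norm_num) (by norm_num) (by norm_num) (by norm_num)
          (by norm_num) (by norm_num) (by decide +kernel) (by decide +kernel) (by decide +kernel)
      · exact socle_absurd hn hM hC (r := 5) (k := 504) hG (by norm_num)
          (hV ▸ vertex_2520 h (Or.inl rfl))
          (s := 3) (a := 2) (l := 56) (by rw [ht]; norm_num) (by norm_num) (by norm_num) (by norm_num)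
          (by norm_num) (by norm_num) (by decide +kernel) (by decide +kernel) (by decide +kernel)
      · exact socle_absurd hn hM hC (r := 19) (k := 180) hG (by norm_num)
          (hV ▸ vertex_psl_prime hS 19 hlt (by norm_num) (by rw [h]; norm_num))
          (s := 5) (a := 1) (l := 12) (by rw [ht]; norm_num) (by norm_num) (by norm_num) (by norm_num)
          (by norm_num) (by norm_num) (by decide +kernel) (by decide +kernel) (by decide +kernel)
      · exact socle_absurd hn hM hC (r := 17) (k := 240) hG (by norm_num)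
          (hV ▸ vertex_4080 hS h)
          (s := 5) (a := 1) (l := 12) (by rw [ht]; norm_num) (by norm_num) (by norm_num) (by norm_num)
          (by norm_num) (by norm_num) (by decide +kernel) (by decide +kernel) (by decide +kernel)

end Cfsg.Agent.SmallDegreeGraph
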